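import Groth.Agent.Lib.LocSplit28.Near

/-!
# Locally split values when the degrees sum to at most two
-/

set_option autoImplicit false
set_option linter.style.haveILetI false

universe u

open NumberField IsDedekindDomain WithZero Module
open scoped TensorProduct

namespace GrothLib.LocSplit28

variable {k : Type u} [Field k] [NumberField k] {k₁ L : Type u} [Field k₁] [NumberField k₁] [Algebra k k₁]
  [Field L] [NumberField L] [Algebra k₁ L] [Algebra k L] [IsScalarTower k k₁ L]

theorem repr_tmul {K : Type u} [Field K] [Algebra k K] {ι : Type*} (B : Basis ι k k₁) (t : K) (x : k₁) (i : ι) :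
    (Algebra.TensorProduct.basis K B).repr (t ⊗ₜ[k] x) i = t * algebraMap k K (B.repr x i) := by
  simp [Algebra.TensorProduct.basis_repr_tmul]

/-- Norms from the tensor product give coordinate targets. -/
theorem target_nonempty {K : Type u} [Field K] [Algebra k K] {ι κ : Type*} [Fintype κ] (B : Basis ι k k₁)
    (BL : Basis κ k L) (b a : k₁) (t : K) {U : Set (ι → K)}
    (hU : (fun i => t * algebraMap k K (B.repr b i) - algebraMap k K (B.repr (b * a) i)) ∈ U)
    (h : letI := mapAlg (k := k) K k₁ L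
      ∃ x : K ⊗[k] L, IsUnit x ∧ Algebra.norm (K ⊗[k] k₁) x =
        (1 : K) ⊗ₜ[k] b * (t ⊗ₜ[k] (1 : k₁) - (1 : K) ⊗ₜ[k] a)) :
    (normT K B BL ⁻¹' U).Nonempty := by
  obtain ⟨x, -, hx⟩ := h
  refine ⟨fun j => (Algebra.TensorProduct.basis K BL).repr x j, ?_⟩
  rw [Set.mem_preimage, normT_repr, hx]
  convert hU using 1
  funext i
  rw [mul_sub, Algebra.TensorProduct.tmul_mul_tmul, Algebra.TensorProduct.tmul_mul_tmul, map_sub, Finsupp.sub_apply,
    repr_tmul, repr_tmul]
  simp

variable (Sf : Finset (HeightOneSpectrum (𝓞 k))) (b : k₁)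

variable (k₁ L) in
/-- Outside `Sf` the extension is unramified and `b` is a unit. -/
structure Good : Prop where
  unit : ∀ W : HeightOneSpectrum (𝓞 k₁), W.under (𝓞 k) ∉ Sf → W.valuation k₁ b = 1
  unram : ∀ W : HeightOneSpectrum (𝓞 k₁), W.under (𝓞 k) ∉ Sf → ∀ Q : Ideal (𝓞 L), Q.IsPrime → Q ≠ ⊥ →
    Q.LiesOver W.asIdeal → Q.ramificationIdx (𝓞 k₁) = 1

variable {Sf b}

theorem good_of (hb : ∀ W : HeightOneSpectrum (𝓞 k₁), W.valuation k₁ b ≠ 1 → ∃ v ∈ Sf, W.asIdeal.LiesOver v.asIdeal)
    (hram : ∀ Q : Ideal (𝓞 L), Q.IsPrime → Q ≠ ⊥ → Q.ramificationIdx (𝓞 k₁) ≠ 1 → ∃ v ∈ Sf, Q.LiesOver v.asIdeal) :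
    Good k₁ L Sf b := by
  refine ⟨fun W hW => by_contra fun h => ?_, fun W hW Q hQ hQ0 hQW => by_contra fun h => ?_⟩
  · obtain ⟨v, hv, hl⟩ := hb W h
    exact hW (((liesOver_iff v W).mp hl).symm ▸ hv)
  · obtain ⟨v, hv, hl⟩ := hram Q hQ hQ0 h
    haveI := hQW
    haveI : W.asIdeal.LiesOver (W.under (𝓞 k)).asIdeal := Ideal.over_under W.asIdeal
    have h1 : Q.LiesOver (W.under (𝓞 k)).asIdeal := Ideal.LiesOver.trans Q W.asIdeal _
    exact hW (HeightOneSpectrum.ext (h1.over.trans hl.over.symm) ▸ hv)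

theorem exists_eq_algebraMap (h : finrank k k₁ = 1) (x : k₁) : ∃ r : k, algebraMap k k₁ r = x := by
  obtain ⟨c, hc⟩ := (finrank_eq_one_iff_of_nonzero' (1 : k₁) one_ne_zero).mp h x
  exact ⟨c, by rw [← hc, Algebra.algebraMap_eq_smul_one]⟩

theorem exists_basis_single (h : finrank k k₁ = 1) (hb : b ≠ 0) :
    ∃ B : Basis (Fin 1) k k₁, B 0 = b ∧ ∀ x : k₁, algebraMap k k₁ (B.repr x 0) * b = x := by
  haveI : FiniteDimensional k k₁ := Module.Finite.of_restrictScalars_finite ℚ _ _
  let B' : Basis (Fin 1) k k₁ := basisOfLinearIndependentOfCardEqFinrank (b := fun _ : Fin 1 => b)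
    (LinearIndependent.of_subsingleton (0 : Fin 1) hb) (by simp [h])
  refine ⟨B', by simp [B'], fun x => ?_⟩
  conv_rhs => rw [← B'.sum_repr x]
  simp [B', Algebra.smul_def]

theorem exists_basis_pair (h : finrank k k₁ = 2) {a : k₁} (ha : IntermediateField.adjoin k {a} = ⊤) (hb : b ≠ 0) :
    ∃ B : Basis (Fin 2) k k₁, B 0 = b ∧ B 1 = b * a ∧
      ∀ x : k₁, b * (algebraMap k k₁ (B.repr x 0) + algebraMap k k₁ (B.repr x 1) * a) = x := by
  haveI : FiniteDimensional k k₁ := Module.Finite.of_restrictScalars_finite ℚ _ _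
  have hnot : ∀ r : k, algebraMap k k₁ r ≠ a := fun r hr => by
    have : IntermediateField.adjoin k {a} = ⊥ := by
      rw [IntermediateField.adjoin_simple_eq_bot_iff, ← hr]
      exact IntermediateField.algebraMap_mem _ r
    rw [ha] at this
    have h2 := IntermediateField.finrank_top' (F := k) (E := k₁)
    rw [this, IntermediateField.finrank_bot, h] at h2
    exact absurd h2 (by norm_num)
  have hli : LinearIndependent k ![b, b * a] := by
    rw [LinearIndependent.pair_iff]
    intro x y hxy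
    rw [Algebra.smul_def, Algebra.smul_def] at hxy
    have h0 : algebraMap k k₁ x + algebraMap k k₁ y * a = 0 := by
      refine mul_left_cancel₀ hb ?_
      rw [mul_zero, ← hxy]; ring
    rcases eq_or_ne y 0 with rfl | hy
    · refine ⟨(algebraMap k k₁).injective ?_, rfl⟩
      simpa using h0
    · exfalso
      refine hnot (-x / y) ?_
      rw [map_div₀, map_neg, div_eq_iff ((_root_.map_ne_zero _).mpr hy)]
      linear_combination -h0
  refine ⟨basisOfLinearIndependentOfCardEqFinrank hli (by simp [h]), by simp, by simp, fun x => ?_⟩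
  conv_rhs => rw [← (basisOfLinearIndependentOfCardEqFinrank hli (by simp [h])).sum_repr x]
  simp [Fin.sum_univ_two, Algebra.smul_def]
  ring

/-- One extension of degree one. -/
theorem caseOne (h1 : finrank k k₁ = 1) (a : k₁) (hb0 : b ≠ 0) (hgood : Good k₁ L Sf b)
    (Si : Finset (InfinitePlace k)) (tf : (v : HeightOneSpectrum (𝓞 k)) → v.adicCompletion k)
    (ti : (w : InfinitePlace k) → w.Completion)
    (htf : ∀ v ∈ Sf, letI := mapAlg (k := k) (v.adicCompletion k) k₁ L
      ∃ x : (v.adicCompletion k) ⊗[k] L, IsUnit x ∧ Algebra.norm ((v.adicCompletion k) ⊗[k] k₁) x =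
        (1 : v.adicCompletion k) ⊗ₜ[k] b * (tf v ⊗ₜ[k] (1 : k₁) - (1 : v.adicCompletion k) ⊗ₜ[k] a))
    (hti : ∀ w ∈ Si, letI := mapAlg (k := k) w.Completion k₁ L
      ∃ x : w.Completion ⊗[k] L, IsUnit x ∧ Algebra.norm (w.Completion ⊗[k] k₁) x =
        (1 : w.Completion) ⊗ₜ[k] b * (ti w ⊗ₜ[k] (1 : k₁) - (1 : w.Completion) ⊗ₜ[k] a))
    (Uf : (v : HeightOneSpectrum (𝓞 k)) → Set (v.adicCompletion k)) (hUf : ∀ v ∈ Sf, IsOpen (Uf v) ∧ tf v ∈ Uf v)
    (Ui : (w : InfinitePlace k) → Set w.Completion) (hUi : ∀ w ∈ Si, IsOpen (Ui w) ∧ ti w ∈ Ui w)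
    (v₀ : HeightOneSpectrum (𝓞 k)) (hv₀ : v₀ ∉ Sf)
    (hsplit : ∀ W : HeightOneSpectrum (𝓞 k₁), W.under (𝓞 k) = v₀ → Nonempty (L →ₐ[k₁] W.adicCompletion k₁)) :
    ∃ t₀ : k, (∀ v ∈ Sf, algebraMap k (v.adicCompletion k) t₀ ∈ Uf v) ∧
      (∀ w ∈ Si, algebraMap k w.Completion t₀ ∈ Ui w) ∧
      ∀ W : HeightOneSpectrum (𝓞 k₁), W.valuation k₁ (algebraMap k k₁ t₀ - a) < 1 →
        W.under (𝓞 k) ∈ Sf ∨ Nonempty (L →ₐ[k₁] W.adicCompletion k₁) := by
  classical
  haveI : FiniteDimensional k k₁ := Module.Finite.of_restrictScalars_finite ℚ _ _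
  haveI : FiniteDimensional k₁ L := Module.Finite.of_restrictScalars_finite ℚ _ _
  haveI : FiniteDimensional k L := Module.Finite.of_restrictScalars_finite ℚ _ _
  obtain ⟨B, hB0, hB⟩ := exists_basis_single h1 hb0
  obtain ⟨α, rfl⟩ := exists_eq_algebraMap h1 a
  have hBb : B.repr b 0 = 1 := by rw [← hB0, B.repr_self, Finsupp.single_eq_same]
  have hBba : B.repr (b * algebraMap k k₁ α) 0 = α := by
    rw [mul_comm, ← Algebra.smul_def, map_smul, Finsupp.smul_apply, hBb, smul_eq_mul, mul_one]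
  let F : (K : Type u) → [Field K] → [Algebra k K] → (Fin 1 → K) → K := fun K _ _ c => algebraMap k K α + c 0
  obtain ⟨T, hTf, hTi, hT⟩ := near (L := L) B (Module.finBasis k L) Sf (fun v => F (v.adicCompletion k) ⁻¹' Uf v)
    (fun v hv => ⟨(hUf v hv).1.preimage (continuous_const.add (continuous_apply 0)),
      target_nonempty B _ b _ (tf v) (by simp only [Set.mem_preimage, F, hBb, hBba, map_one, mul_one, add_sub_cancel]; exact (hUf v hv).2) (htf v hv)⟩)
    (fun w => if w ∈ Si then F w.Completion ⁻¹' Ui w else Set.univ)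
    (fun w => by
      split_ifs with hw
      · exact ⟨(hUi w hw).1.preimage (continuous_const.add (continuous_apply 0)),
          target_nonempty B _ b _ (ti w) (by simp only [Set.mem_preimage, F, hBb, hBba, map_one, mul_one, add_sub_cancel]; exact (hUi w hw).2) (hti w hw)⟩
      · exact ⟨isOpen_univ, ⟨0, trivial⟩⟩)
    v₀ hv₀ hsplit
  refine ⟨α + B.repr T 0, fun v hv => ?_, fun w hw => ?_, fun W hW => ?_⟩
  · rw [map_add]; exact hTf v hv
  · have := hTi w; rw [if_pos hw] at this; rw [map_add]; exact this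
  · by_contra hc
    push Not at hc
    have h1' : W.valuation k₁ T = 1 := (hT W hc.1).2.resolve_right fun h => hc.2.false h.some
    rw [map_add, add_sub_cancel_left] at hW
    rw [← hB T, map_mul, hgood.unit W hc.1, mul_one] at h1'
    exact hW.ne h1'

/-- One extension of degree two. -/
theorem caseTwo (h2 : finrank k k₁ = 2) (a : k₁) (ha : IntermediateField.adjoin k {a} = ⊤) (hb0 : b ≠ 0)
    (hgood : Good k₁ L Sf b)
    (Si : Finset (InfinitePlace k)) (tf : (v : HeightOneSpectrum (𝓞 k)) → v.adicCompletion k)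
    (ti : (w : InfinitePlace k) → w.Completion)
    (htf : ∀ v ∈ Sf, letI := mapAlg (k := k) (v.adicCompletion k) k₁ L
      ∃ x : (v.adicCompletion k) ⊗[k] L, IsUnit x ∧ Algebra.norm ((v.adicCompletion k) ⊗[k] k₁) x =
        (1 : v.adicCompletion k) ⊗ₜ[k] b * (tf v ⊗ₜ[k] (1 : k₁) - (1 : v.adicCompletion k) ⊗ₜ[k] a))
    (hti : ∀ w ∈ Si, letI := mapAlg (k := k) w.Completion k₁ L
      ∃ x : w.Completion ⊗[k] L, IsUnit x ∧ Algebra.norm (w.Completion ⊗[k] k₁) x =
        (1 : w.Completion) ⊗ₜ[k] b * (ti w ⊗ₜ[k] (1 : k₁) - (1 : w.Completion) ⊗ₜ[k] a))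
    (Uf : (v : HeightOneSpectrum (𝓞 k)) → Set (v.adicCompletion k)) (hUf : ∀ v ∈ Sf, IsOpen (Uf v) ∧ tf v ∈ Uf v)
    (Ui : (w : InfinitePlace k) → Set w.Completion) (hUi : ∀ w ∈ Si, IsOpen (Ui w) ∧ ti w ∈ Ui w)
    (choice : ∀ Z : Finset (HeightOneSpectrum (𝓞 k)), ∃ v₀, v₀ ∉ Z ∧
      ∀ W : HeightOneSpectrum (𝓞 k₁), W.under (𝓞 k) = v₀ → Nonempty (L →ₐ[k₁] W.adicCompletion k₁)) :
    ∃ t₀ : k, (∀ v ∈ Sf, algebraMap k (v.adicCompletion k) t₀ ∈ Uf v) ∧
      (∀ w ∈ Si, algebraMap k w.Completion t₀ ∈ Ui w) ∧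
      ∀ W : HeightOneSpectrum (𝓞 k₁), W.valuation k₁ (algebraMap k k₁ t₀ - a) < 1 →
        W.under (𝓞 k) ∈ Sf ∨ Nonempty (L →ₐ[k₁] W.adicCompletion k₁) := by
  classical
  haveI : FiniteDimensional k k₁ := Module.Finite.of_restrictScalars_finite ℚ _ _
  haveI : FiniteDimensional k₁ L := Module.Finite.of_restrictScalars_finite ℚ _ _
  haveI : FiniteDimensional k L := Module.Finite.of_restrictScalars_finite ℚ _ _
  obtain ⟨B, hB0, hB1, hB⟩ := exists_basis_pair h2 ha hb0
  have hBb : B.repr b 0 = 1 ∧ B.repr b 1 = 0 := by rw [← hB0, B.repr_self]; simp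
  have hBba : B.repr (b * a) 0 = 0 ∧ B.repr (b * a) 1 = 1 := by rw [← hB1, B.repr_self]; simp
  obtain ⟨M, hMfin, hM⟩ := exists_coord_bound B
  let E := hMfin.toFinset.filter (· ∉ Sf)
  obtain ⟨v₀, hv₀, hsplit⟩ := choice (Sf ∪ E)
  let d := finrank k₁ L
  -- a norm whose second coordinate is nonzero
  obtain ⟨z, hz⟩ : ∃ z : L, B.repr (Algebra.norm k₁ z) 1 ≠ 0 := by
    let Λ : k₁ → k := fun x => B.repr x 1
    let g : Polynomial k := ∑ j ∈ Finset.range (d + 1), Polynomial.C (Λ (a ^ j) * (d.choose j : k)) * Polynomial.X ^ (d - j)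
    suffices hg : g ≠ 0 by
      obtain ⟨r, hr⟩ : ∃ r : k, g.eval r ≠ 0 := by
        by_contra h
        push Not at h
        exact hg (Polynomial.funext fun r => by simp [h r])
      refine ⟨algebraMap k₁ L (a + algebraMap k k₁ r), ?_⟩
      rw [Algebra.norm_algebraMap, add_pow, map_sum, Finsupp.finsetSum_apply]
      convert hr using 1
      rw [Polynomial.eval_finsetSum]
      refine Finset.sum_congr rfl fun j _ => ?_
      rw [show a ^ j * algebraMap k k₁ r ^ (d - j) * (d.choose j : k₁) = (r ^ (d - j) * (d.choose j : k)) • a ^ j by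
        rw [Algebra.smul_def, map_mul, map_pow, map_natCast]; ring, map_smul, Finsupp.smul_apply, smul_eq_mul,
        Polynomial.eval_mul, Polynomial.eval_C, Polynomial.eval_pow, Polynomial.eval_X]
      ring
    intro hg
    have hcoef : ∀ j ≤ d, Λ (a ^ j) * (d.choose j : k) = 0 := fun j hj => by
      have := congrArg (fun p => Polynomial.coeff p (d - j)) hg
      simp only [g, Polynomial.finsetSum_coeff, Polynomial.coeff_C_mul_X_pow, Polynomial.coeff_zero] at this
      rw [Finset.sum_eq_single j (fun i hi hij => if_neg (by have := Finset.mem_range.mp hi; omega))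
        (fun h => absurd (Finset.mem_range.mpr (by omega)) h), if_pos rfl] at this
      exact this
    have e0 : Λ 1 = 0 := by simpa using hcoef 0 (Nat.zero_le _)
    have e1 : Λ a = 0 := by
      have := hcoef 1 Module.finrank_pos
      simpa [d, Module.finrank_pos.ne'] using this
    have g0 : b * algebraMap k k₁ (B.repr 1 0) = 1 := by simpa [show B.repr 1 1 = 0 from e0] using hB 1
    have g1 : b * algebraMap k k₁ (B.repr a 0) = a := by simpa [show B.repr a 1 = 0 from e1] using hB a
    have hr0 : B.repr 1 0 ≠ 0 := fun h => by simp [h] at g0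
    have : a = algebraMap k k₁ (B.repr a 0 / B.repr 1 0) := by
      rw [map_div₀, eq_div_iff ((_root_.map_ne_zero _).mpr hr0)]
      conv_lhs => rw [← g1]
      linear_combination algebraMap k k₁ (B.repr a 0) * g0
    have hbot : IntermediateField.adjoin k {a} = ⊥ := by
      rw [IntermediateField.adjoin_simple_eq_bot_iff, this]
      exact IntermediateField.algebraMap_mem _ _
    rw [ha] at hbot
    have h2' := IntermediateField.finrank_top' (F := k) (E := k₁)
    rw [hbot, IntermediateField.finrank_bot, h2] at h2'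
    exact absurd h2' (by norm_num)
  let R : (K : Type u) → [Field K] → Set (Fin 2 → K) := fun K _ => {c | c 1 ≠ 0}
  let F : (K : Type u) → [Field K] → (Fin 2 → K) → K := fun K _ c => -c 0 / c 1
  have hopen : ∀ (K : Type u) [Field K] [TopologicalSpace K] [IsTopologicalDivisionRing K] [T1Space K] (U : Set K),
      IsOpen U → IsOpen (R K ∩ F K ⁻¹' U) := fun K _ _ _ _ U hU => by
    refine ContinuousOn.isOpen_inter_preimage ?_ (isOpen_ne.preimage (continuous_apply 1)) hU
    exact ((continuous_apply 0).neg.continuousOn).div ((continuous_apply 1).continuousOn) fun c hc => hc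
  let Nv : HeightOneSpectrum (𝓞 k) → ℕ := fun v =>
    ∑ W ∈ (finite_over (k₁ := k₁) v).toFinset, (log (W.valuation k₁ a)).toNat
  have hπ : ∀ v : HeightOneSpectrum (𝓞 k), ∃ π : k, v.valuation k π = exp (-1 : ℤ) := fun v => v.valuation_exists_uniformizer k
  choose π hπ using hπ
  let Ub : (v : HeightOneSpectrum (𝓞 k)) → Set (Fin 2 → v.adicCompletion k) := fun v =>
    {c | Valued.v (c 0 - 1) < 1} ∩ {c | Valued.v (algebraMap k (v.adicCompletion k) ((π v)⁻¹ ^ Nv v) * c 1 - 0) < 1}
  have hbadopen : ∀ v, IsOpen (Ub v) := fun v => by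
    refine IsOpen.inter ?_ ?_
    · exact (GrothLib.StrongApproxNF28.isOpen_v_lt_one v 1).preimage (continuous_apply (A := fun _ : Fin 2 => v.adicCompletion k) 0)
    · exact (GrothLib.StrongApproxNF28.isOpen_v_lt_one v 0).preimage
        (continuous_const.mul (continuous_apply (A := fun _ : Fin 2 => v.adicCompletion k) 1))
  have hbadmem : ∀ v : HeightOneSpectrum (𝓞 k),
      (fun i => algebraMap k (v.adicCompletion k) (B.repr b i)) ∈ Ub v := fun v => by
    simp only [Ub, Set.mem_inter_iff, Set.mem_ofPred_eq, hBb.1, hBb.2, map_one, map_zero, mul_zero, sub_self, sub_zero]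
    exact ⟨zero_lt_one, zero_lt_one⟩
  obtain ⟨T, hTf, hTi, hT⟩ := near (L := L) B (Module.finBasis k L) (Sf ∪ E)
    (fun v => if v ∈ Sf then R (v.adicCompletion k) ∩ F (v.adicCompletion k) ⁻¹' Uf v
      else Ub v)
    (fun v hv => by
      split_ifs with h
      · exact ⟨hopen _ _ (hUf v h).1, target_nonempty B _ b _ (tf v)
          ⟨by simp only [R, Set.mem_ofPred_eq, hBb.2, hBba.2, map_one, map_zero, mul_zero, zero_sub]; exact neg_ne_zero.mpr one_ne_zero,
            by simp only [Set.mem_preimage, F, hBb.1, hBb.2, hBba.1, hBba.2, map_one, map_zero, mul_one, mul_zero, sub_zero, zero_sub, neg_div_neg_eq, div_one]; exact (hUf v h).2⟩ (htf v h)⟩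
      · exact ⟨hbadopen v, exists_norm_near B _ v (fun W hW => hgood.unram W (hW ▸ h)) b
          (fun W hW => hgood.unit W (hW ▸ h)) (hbadopen v) (hbadmem v)⟩)
    (fun w => if w ∈ Si then R w.Completion ∩ F w.Completion ⁻¹' Ui w else R w.Completion)
    (fun w => by
      split_ifs with hw
      · exact ⟨hopen _ _ (hUi w hw).1, target_nonempty B _ b _ (ti w)
          ⟨by simp only [R, Set.mem_ofPred_eq, hBb.2, hBba.2, map_one, map_zero, mul_zero, zero_sub]; exact neg_ne_zero.mpr one_ne_zero,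
            by simp only [Set.mem_preimage, F, hBb.1, hBb.2, hBba.1, hBba.2, map_one, map_zero, mul_one, mul_zero, sub_zero, zero_sub, neg_div_neg_eq, div_one]; exact (hUi w hw).2⟩ (hti w hw)⟩
      · refine ⟨isOpen_ne.preimage (continuous_apply 1), fun j => algebraMap k w.Completion ((Module.finBasis k L).repr z j), ?_⟩
        rw [Set.mem_preimage, normT_algebraMap, (Module.finBasis k L).sum_repr]
        exact (_root_.map_ne_zero _).mpr hz)
    v₀ hv₀ hsplit
  have he : B.repr T 1 ≠ 0 := fun h => by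
    obtain ⟨w⟩ := (inferInstance : Nonempty (InfinitePlace k))
    have := hTi w
    simp only [R] at this
    split_ifs at this
    · exact this.1 ((congrArg (algebraMap k w.Completion) h).trans (map_zero _))
    · exact this ((congrArg (algebraMap k w.Completion) h).trans (map_zero _))
  refine ⟨-B.repr T 0 / B.repr T 1, fun v hv => ?_, fun w hw => ?_, fun W hW => ?_⟩
  · have := hTf v (Finset.mem_union_left _ hv)
    simp only [if_pos hv] at this
    rw [map_div₀, map_neg]; exact this.2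
  · have := hTi w
    simp only [if_pos hw] at this
    rw [map_div₀, map_neg]; exact this.2
  · by_contra hc
    push Not at hc
    by_cases hE : W.under (𝓞 k) ∈ E
    · have := hTf _ (Finset.mem_union_right _ hE)
      simp only [if_neg hc.1, Ub, Set.mem_inter_iff, Set.mem_ofPred_eq, sub_zero, ← map_mul, GrothLib.DegOne28.valued_algebraMap] at this
      obtain ⟨h0, h1⟩ := this
      rw [← map_one (algebraMap k ((W.under (𝓞 k)).adicCompletion k)), ← map_sub, GrothLib.DegOne28.valued_algebraMap] at h0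
      have hv0 : (W.under (𝓞 k)).valuation k (B.repr T 0) = 1 := by
        rw [← map_one ((W.under (𝓞 k)).valuation k)]
        exact Valuation.map_eq_of_sub_lt _ (h0.trans_eq (map_one _).symm)
      obtain ⟨e, he0, hpow⟩ := exists_valuation_pow (k := k) W
      have hne : (W.under (𝓞 k)).valuation k (B.repr T 1) ≠ 0 := (Valuation.ne_zero_iff _).mpr he
      rw [map_mul, map_pow, map_inv₀, hπ, ← exp_neg, ← exp_nsmul, ← exp_log hne, ← exp_add, ← exp_zero, exp_lt_exp] at h1
      simp only [neg_neg, nsmul_eq_mul, mul_one] at h1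
      -- the value has a large pole
      have hbig : exp (Nv (W.under (𝓞 k)) : ℤ) < W.valuation k₁ (algebraMap k k₁ (-B.repr T 0 / B.repr T 1)) := by
        rw [hpow, map_div₀, Valuation.map_neg, hv0, one_div, ← exp_log hne, ← exp_neg, ← exp_nsmul, exp_lt_exp, nsmul_eq_mul]
        have : (1 : ℤ) ≤ (e : ℤ) := by omega
        nlinarith
      have hA : W.valuation k₁ a ≤ exp (Nv (W.under (𝓞 k)) : ℤ) := by
        rcases eq_or_ne (W.valuation k₁ a) 0 with h | h
        · rw [h]; exact zero_le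
        · have := Finset.single_le_sum (f := fun W : HeightOneSpectrum (𝓞 k₁) => (log (W.valuation k₁ a)).toNat)
            (fun _ _ => Nat.zero_le _) ((finite_over (W.under (𝓞 k))).mem_toFinset.mpr (rfl : W.under (𝓞 k) = W.under (𝓞 k)))
          rw [← exp_log h, exp_le_exp]
          simp only [Nv]
          omega
      rw [Valuation.map_sub_eq_of_lt_left _ (hA.trans_lt hbig)] at hW
      have h1le : (1 : ℤᵐ⁰) ≤ exp (Nv (W.under (𝓞 k)) : ℤ) := by rw [← exp_zero, exp_le_exp]; omega
      exact absurd hW (not_lt.mpr (h1le.trans hbig.le))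
    · have hnS : W.under (𝓞 k) ∉ Sf ∪ E := by simp [hc.1, hE]
      have hne : W.under (𝓞 k) ≠ v₀ := fun h => hc.2.false (hsplit W h).some
      have h1' : W.valuation k₁ T = 1 := (hT W hnS).2.resolve_right fun h => hc.2.false h.some
      have hM0 : M (W.under (𝓞 k)) = 0 := by
        by_contra h
        exact hE (Finset.mem_filter.mpr ⟨hMfin.mem_toFinset.mpr h, hc.1⟩)
      have he1 := hM _ T (fun W' hW' => (hT W' (hW' ▸ hnS)).1 (hW' ▸ hne)) 1
      rw [hM0, Nat.cast_zero, exp_zero] at he1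
      have he1' := (val_le_one_iff W).mpr he1
      have hk : algebraMap k k₁ (B.repr T 1) ≠ 0 := (_root_.map_ne_zero _).mpr he
      have heq : algebraMap k k₁ (-B.repr T 0 / B.repr T 1) - a = -(T / b) / algebraMap k k₁ (B.repr T 1) := by
        have hTb : T / b = algebraMap k k₁ (B.repr T 0) + algebraMap k k₁ (B.repr T 1) * a :=
          (div_eq_iff hb0).mpr ((hB T).symm.trans (mul_comm _ _))
        rw [hTb, map_div₀, map_neg]
        field_simp
        ring
      rw [heq, map_div₀, Valuation.map_neg, map_div₀, h1', hgood.unit W hc.1, div_one, one_div,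
        inv_lt_one₀ (zero_lt_iff.mpr ((Valuation.ne_zero_iff _).mpr hk))] at hW
      exact absurd hW (not_lt.mpr he1')

end GrothLib.LocSplit28
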