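import Groth.Agent.Lib.DegOne28.Places
import Groth.Agent.Lib.StrongApproxNF28.CodimTwo
import Mathlib.Topology.UniformSpace.Cauchy
import Mathlib.RingTheory.Ideal.Norm.AbsNorm
import Mathlib.NumberTheory.NumberField.Completion.FinitePlace

/-!
# Closed balls of completions of number fields are compact
-/

set_option autoImplicit false
set_option linter.style.haveILetI false

universe u

open NumberField IsDedekindDomain WithZero

namespace GrothLib.LocSplit28

variable {k : Type u} [Field k] [NumberField k]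

theorem isClosed_le (v : HeightOneSpectrum (𝓞 k)) :
    IsClosed {y : v.adicCompletion k | Valued.v y ≤ 1} := by
  rw [← isOpen_compl_iff]
  refine isOpen_iff_mem_nhds.mpr fun y hy => ?_
  refine Filter.mem_of_superset ((GrothLib.StrongApproxNF28.isOpen_v_lt_one v y).mem_nhds (by simp))
    fun z (hz : Valued.v (z - y) < 1) (hz1 : Valued.v z ≤ 1) => hy ?_
  rw [Set.mem_ofPred_eq, show y = z - (z - y) by ring]
  exact Valuation.map_sub_le _ hz1 hz.le

theorem isCompact_le_one (v : HeightOneSpectrum (𝓞 k)) :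
    IsCompact {y : v.adicCompletion k | Valued.v y ≤ 1} := by
  classical
  rw [isCompact_iff_totallyBounded_isComplete]
  refine ⟨(Valued.hasBasis_uniformity (v.adicCompletion k) ℤᵐ⁰).totallyBounded_iff.mpr fun γ _ => ?_, (isClosed_le v).isComplete⟩
  let g : ℤᵐ⁰ := MonoidWithZeroHom.ValueGroup₀.embedding γ.1
  have hg : g ≠ 0 := fun h => γ.ne_zero
    (MonoidWithZeroHom.ValueGroup₀.embedding_strictMono.injective (h.trans (map_zero _).symm))
  let N : ℕ := (1 - log g).toNat
  haveI : Finite (𝓞 k ⧸ v.asIdeal ^ N) := Ideal.finiteQuotientOfFreeOfNeBot _ (pow_ne_zero _ v.ne_bot)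
  let r : 𝓞 k ⧸ v.asIdeal ^ N → v.adicCompletion k :=
    fun q => algebraMap k (v.adicCompletion k) (q.out : 𝓞 k)
  refine ⟨Set.range r, Set.finite_range r, fun y (hy : Valued.v y ≤ 1) => ?_⟩
  have hsmall : ∀ z : v.adicCompletion k, Valued.v z ≤ exp (-(N : ℤ)) → Valued.v z < g := fun z hz => by
    refine hz.trans_lt ?_
    rw [← exp_log hg, exp_lt_exp]; omega
  obtain ⟨π, hπ⟩ := v.valuation_exists_uniformizer k
  obtain ⟨x, hx⟩ := (HeightOneSpectrum.denseRange_algebraMap (K := k) v).exists_mem_open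
    (s := {z | Valued.v (algebraMap k (v.adicCompletion k) (π⁻¹ ^ N) * (z - y) - 0) < 1})
    ((GrothLib.StrongApproxNF28.isOpen_v_lt_one v 0).preimage (continuous_const.mul (continuous_id.sub continuous_const)))
    ⟨y, by simp⟩
  rw [Set.mem_ofPred_eq, sub_zero, map_mul, GrothLib.DegOne28.valued_algebraMap, map_pow, map_inv₀, hπ, ← exp_neg, ← exp_nsmul] at hx
  have hxy : Valued.v (algebraMap k (v.adicCompletion k) x - y) ≤ exp (-(N : ℤ)) := by
    have h2 := mul_le_mul_right hx.le (exp (-(N : ℤ)))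
    rw [mul_one, ← mul_assoc, ← exp_add, nsmul_eq_mul] at h2
    simpa using h2
  have hx1 : v.valuation k x ≤ 1 := by
    rw [← GrothLib.DegOne28.valued_algebraMap, ← sub_add_cancel (algebraMap k (v.adicCompletion k) x) y]
    exact Valuation.map_add_le _ (hxy.trans (by rw [← exp_zero, exp_le_exp]; omega)) hy
  obtain ⟨a, ha⟩ := v.exists_valuation_sub_lt_of_integer hx1 (Units.mk0 (exp (-(N : ℤ))) exp_ne_zero)
  refine Set.mem_biUnion ⟨Ideal.Quotient.mk _ a, rfl⟩ ?_
  show (Valued.v).restrict (r (Ideal.Quotient.mk _ a) - y) < γ.1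
  rw [Valuation.restrict_lt_iff_lt_embedding]
  refine hsmall _ ?_
  have hq : v.valuation k (((Ideal.Quotient.mk (v.asIdeal ^ N) a).out : 𝓞 k) - (a : k)) ≤ exp (-(N : ℤ)) := by
    rw [RingOfIntegers.coe_eq_algebraMap, ← map_sub (algebraMap (𝓞 k) k), HeightOneSpectrum.valuation_of_algebraMap,
      HeightOneSpectrum.intValuation_le_pow_iff_mem]
    exact Ideal.Quotient.eq.mp (Ideal.Quotient.mk_out _)
  show Valued.v (algebraMap k (v.adicCompletion k) ((Ideal.Quotient.mk (v.asIdeal ^ N) a).out : 𝓞 k) - y) ≤ _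
  rw [show algebraMap k (v.adicCompletion k) ((Ideal.Quotient.mk (v.asIdeal ^ N) a).out : 𝓞 k) - y =
      algebraMap k (v.adicCompletion k) (((Ideal.Quotient.mk (v.asIdeal ^ N) a).out : 𝓞 k) - (a : k)) +
      (algebraMap k (v.adicCompletion k) ((a : k) - x) + (algebraMap k (v.adicCompletion k) x - y)) by
    simp only [map_sub]; ring]
  refine Valuation.map_add_le _ ((GrothLib.DegOne28.valued_algebraMap v _).trans_le hq) (Valuation.map_add_le _ ?_ hxy)
  rw [GrothLib.DegOne28.valued_algebraMap]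
  exact ha.le

theorem isCompact_box {κ : Type*} (v : HeightOneSpectrum (𝓞 k)) (M : ℕ) :
    IsCompact {c : κ → v.adicCompletion k | ∀ j, Valued.v (c j) ≤ exp (M : ℤ)} := by
  obtain ⟨π, hπ⟩ := v.valuation_exists_uniformizer k
  have hπ0 : algebraMap k (v.adicCompletion k) (π ^ M) ≠ 0 := (_root_.map_ne_zero _).mpr (pow_ne_zero _ fun h => by
    rw [h, map_zero] at hπ; exact exp_ne_zero hπ.symm)
  have h := (isCompact_univ_pi fun _ : κ => isCompact_le_one v).image
    (f := fun c j => (algebraMap k (v.adicCompletion k) (π ^ M))⁻¹ * c j)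
    (continuous_pi fun j => continuous_const.mul (continuous_apply j))
  convert h using 1
  ext c
  simp only [Set.mem_ofPred_eq, Set.mem_image, Set.mem_pi, Set.mem_univ, forall_true_left]
  constructor
  · intro hc
    refine ⟨fun j => algebraMap k (v.adicCompletion k) (π ^ M) * c j, fun j => ?_, funext fun j => inv_mul_cancel_left₀ hπ0 _⟩
    show Valued.v _ ≤ _
    rw [map_mul, GrothLib.DegOne28.valued_algebraMap, map_pow, hπ, ← exp_nsmul]
    refine (mul_le_mul_right (hc j) _).trans ?_
    rw [← exp_add, ← exp_zero, exp_le_exp]; simp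
  · rintro ⟨d, hd, rfl⟩ j
    rw [map_mul, map_inv₀, GrothLib.DegOne28.valued_algebraMap, map_pow, hπ, ← exp_nsmul, ← exp_neg]
    refine (mul_le_of_le_one_right' (hd j)).trans ?_
    rw [exp_le_exp]; simp

end GrothLib.LocSplit28
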