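import Groth.Agent.Lib.LocSplit28.UnitExact

/-!
# Changing coordinate by a Moebius transformation
-/

set_option autoImplicit false
set_option linter.style.haveILetI false

universe u

open NumberField IsDedekindDomain WithZero
open scoped TensorProduct

namespace GrothLib.LocSplit28

variable {k : Type u} [Field k] {k₁ L : Type u} [Field k₁] [Field L] [Algebra k k₁] [Algebra k L]
  [Algebra k₁ L] [IsScalarTower k k₁ L] {K : Type u} [Field K] [Algebra k K]

theorem one_tmul_smul (c : k) (x : k₁) : (1 : K) ⊗ₜ[k] (c • x) = algebraMap k K c ⊗ₜ[k] x := by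
  rw [TensorProduct.tmul_smul, TensorProduct.smul_tmul', Algebra.smul_def, mul_one]

/-- The value transforms by the factor `det / (γ t + δ)`. -/
theorem moebius_value {a b : k₁} {α β γ δ : k} {t : K} (ht : algebraMap k K γ * t + algebraMap k K δ ≠ 0)
    (ha : algebraMap k k₁ γ * a + algebraMap k k₁ δ ≠ 0) :
    (1 : K) ⊗ₜ[k] b * (t ⊗ₜ[k] (1 : k₁) - (1 : K) ⊗ₜ[k] a) *
        ((algebraMap k K (α * δ - β * γ) / (algebraMap k K γ * t + algebraMap k K δ)) ⊗ₜ[k] (1 : k₁)) =
      (1 : K) ⊗ₜ[k] (b * (algebraMap k k₁ γ * a + algebraMap k k₁ δ)) *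
        (((algebraMap k K α * t + algebraMap k K β) / (algebraMap k K γ * t + algebraMap k K δ)) ⊗ₜ[k] (1 : k₁) -
          (1 : K) ⊗ₜ[k] ((algebraMap k k₁ α * a + algebraMap k k₁ β) / (algebraMap k k₁ γ * a + algebraMap k k₁ δ))) := by
  set s := algebraMap k K (α * δ - β * γ) / (algebraMap k K γ * t + algebraMap k K δ) with hs
  set t' := (algebraMap k K α * t + algebraMap k K β) / (algebraMap k K γ * t + algebraMap k K δ) with ht'
  have e1 : b * (algebraMap k k₁ γ * a + algebraMap k k₁ δ) = γ • (b * a) + δ • b := by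
    simp only [Algebra.smul_def]; ring
  have e2 : b * (algebraMap k k₁ γ * a + algebraMap k k₁ δ) *
      ((algebraMap k k₁ α * a + algebraMap k k₁ β) / (algebraMap k k₁ γ * a + algebraMap k k₁ δ)) = α • (b * a) + β • b := by
    rw [mul_assoc, mul_div_cancel₀ _ ha]; simp only [Algebra.smul_def]; ring
  rw [mul_sub, Algebra.TensorProduct.tmul_mul_tmul, Algebra.TensorProduct.tmul_mul_tmul, sub_mul,
    Algebra.TensorProduct.tmul_mul_tmul, Algebra.TensorProduct.tmul_mul_tmul, mul_sub,
    Algebra.TensorProduct.tmul_mul_tmul, Algebra.TensorProduct.tmul_mul_tmul, e2]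
  simp only [mul_one, one_mul, e1, TensorProduct.tmul_add, one_tmul_smul]
  have f1 : algebraMap k K γ * t' - algebraMap k K α = -s := by
    rw [hs, ht', mul_div_assoc', div_sub' ht, ← neg_div]
    congr 1
    simp only [map_sub, map_mul]; ring
  have f2 : algebraMap k K δ * t' - algebraMap k K β = t * s := by
    rw [hs, ht', mul_div_assoc', div_sub' ht, mul_div_assoc']
    congr 1
    simp only [map_sub, map_mul]; ring
  have g : ∀ (c : k) (x : k₁), t' ⊗ₜ[k] (c • x) = (algebraMap k K c * t') ⊗ₜ[k] x := fun c x => by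
    rw [TensorProduct.tmul_smul, TensorProduct.smul_tmul', Algebra.smul_def]
  rw [g, g, add_sub_add_comm, ← TensorProduct.sub_tmul, ← TensorProduct.sub_tmul, f1, f2, TensorProduct.neg_tmul]
  abel

theorem exists_unit_norm_mul {c d : K ⊗[k] k₁}
    (hc : letI := mapAlg (k := k) K k₁ L; ∃ x : K ⊗[k] L, IsUnit x ∧ Algebra.norm (K ⊗[k] k₁) x = c)
    (hd : letI := mapAlg (k := k) K k₁ L; ∃ x : K ⊗[k] L, IsUnit x ∧ Algebra.norm (K ⊗[k] k₁) x = d) :
    letI := mapAlg (k := k) K k₁ L
    ∃ x : K ⊗[k] L, IsUnit x ∧ Algebra.norm (K ⊗[k] k₁) x = c * d := by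
  obtain ⟨x, hx, rfl⟩ := hc
  obtain ⟨y, hy, rfl⟩ := hd
  exact ⟨x * y, hx.mul hy, map_mul _ x y⟩

/-- The inverse transformation is continuous at the transformed point. -/
theorem exists_open_pullback (K : Type u) [Field K] [Algebra k K] [TopologicalSpace K] [IsTopologicalDivisionRing K]
    [T1Space K] {α β γ δ : k} (hdet : α * δ - β * γ ≠ 0) {t : K} (ht : algebraMap k K γ * t + algebraMap k K δ ≠ 0)
    {U : Set K} (hU : IsOpen U) (htU : t ∈ U) :
    ∃ U' : Set K, IsOpen U' ∧ (algebraMap k K α * t + algebraMap k K β) / (algebraMap k K γ * t + algebraMap k K δ) ∈ U' ∧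
      ∀ t₀' : k, α ≠ γ * t₀' → algebraMap k K t₀' ∈ U' →
        algebraMap k K ((δ * t₀' - β) / (α - γ * t₀')) ∈ U := by
  let f : K → K := fun y => (algebraMap k K δ * y - algebraMap k K β) / (algebraMap k K α - algebraMap k K γ * y)
  have hop : IsOpen ({y | algebraMap k K α - algebraMap k K γ * y ≠ 0} ∩ f ⁻¹' U) := by
    refine ContinuousOn.isOpen_inter_preimage ?_
      (isOpen_ne.preimage (continuous_const.sub (continuous_const.mul continuous_id))) hU
    exact ((continuous_const.mul continuous_id).sub continuous_const).continuousOn.div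
      (continuous_const.sub (continuous_const.mul continuous_id)).continuousOn fun y hy => hy
  refine ⟨_, hop, ⟨?_, ?_⟩, fun t₀' _ h => ?_⟩
  · intro h
    apply (_root_.map_ne_zero (algebraMap k K)).mpr hdet
    field_simp at h
    simp only [map_sub, map_mul]
    linear_combination h
  · show f _ ∈ U
    convert htU using 1
    have hd : algebraMap k K α * algebraMap k K δ - algebraMap k K β * algebraMap k K γ ≠ 0 := by
      rw [← map_mul, ← map_mul, ← map_sub]; exact (_root_.map_ne_zero _).mpr hdet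
    simp only [f]
    generalize algebraMap k K α = A, algebraMap k K β = B, algebraMap k K γ = C, algebraMap k K δ = D at ht hd ⊢
    rw [mul_div_assoc', div_sub' ht, mul_div_assoc', sub_div' ht, div_div_div_cancel_right₀ ht,
      show D * (A * t + B) - (C * t + D) * B = t * (A * D - B * C) by ring,
      show A * (C * t + D) - C * (A * t + B) = A * D - B * C by ring, mul_div_cancel_right₀ _ hd]
  · have := h.2
    rw [map_div₀, map_sub, map_mul, map_sub, map_mul]
    exact this

/-- The estimate at one place outside the enlarged set. -/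
theorem val_moebius_lt_one {F : Type u} [Field F] {Γ : Type*} [LinearOrderedCommGroupWithZero Γ] (w : Valuation F Γ)
    {a b α β γ δ s : F} (hd : α - γ * s ≠ 0) (hga : γ * a + δ ≠ 0) (hα : w α ≤ 1) (hγ : w γ ≤ 1)
    (hb : w b = 1) (hb' : w (b * (γ * a + δ)) = 1) (ha' : w ((α * a + β) / (γ * a + δ)) ≤ 1)
    (h : w ((δ * s - β) / (α - γ * s) - a) < 1) : w (s - (α * a + β) / (γ * a + δ)) < 1 := by
  have hg : w (γ * a + δ) = 1 := by rwa [map_mul, hb, one_mul] at hb'
  have e1 : (δ * s - β) / (α - γ * s) - a = ((γ * a + δ) * s - (α * a + β)) / (α - γ * s) := by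
    rw [div_sub' hd]; ring
  have e2 : s - (α * a + β) / (γ * a + δ) = ((γ * a + δ) * s - (α * a + β)) / (γ * a + δ) := by
    rw [sub_div' hga, mul_comm]
  rw [e2, map_div₀, hg, div_one]
  rw [e1, map_div₀, div_lt_one₀ (zero_lt_iff.mpr ((Valuation.ne_zero_iff _).mpr hd))] at h
  rcases le_or_gt (w s) 1 with hs | hs
  · refine h.trans_le (w.map_sub_le hα ?_)
    rw [map_mul]; exact mul_le_one' hγ hs
  · exfalso
    have hden : w (α - γ * s) ≤ w s := w.map_sub_le (hα.trans hs.le) (by
      rw [map_mul]; exact mul_le_of_le_one_left' hγ)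
    have hnum : w ((γ * a + δ) * s - (α * a + β)) = w s := by
      rw [map_div₀, hg, div_one] at ha'
      rw [Valuation.map_sub_eq_of_lt_left w (by rw [map_mul, hg, one_mul]; exact ha'.trans_lt hs), map_mul, hg, one_mul]
    exact (h.trans_le hden).ne hnum

end GrothLib.LocSplit28
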