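import Groth.Agent.Lib.LocSplit28.NormNear

/-!
# Norms in a tower that are units away from split places
-/

set_option autoImplicit false
set_option linter.style.haveILetI false

universe u

open NumberField IsDedekindDomain WithZero Polynomial Module
open scoped TensorProduct

namespace GrothLib.LocSplit28

variable {k k₁ L : Type u} [Field k] [NumberField k] [Field k₁] [NumberField k₁] [Algebra k k₁]
  [Field L] [NumberField L] [Algebra k₁ L] [Algebra k L] [IsScalarTower k k₁ L]

/-- A norm from `L` with prescribed coordinates at finitely many places, which is a unit at all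
other places that are not split. -/
theorem near [FiniteDimensional k k₁] [FiniteDimensional k₁ L] {ι : Type*} [Fintype ι] (B : Basis ι k k₁)
    {m : ℕ} (BL : Basis (Fin m) k L) (S : Finset (HeightOneSpectrum (𝓞 k)))
    (Uf : (v : HeightOneSpectrum (𝓞 k)) → Set (ι → v.adicCompletion k))
    (hUf : ∀ v ∈ S, IsOpen (Uf v) ∧ (normT (v.adicCompletion k) B BL ⁻¹' Uf v).Nonempty)
    (Ui : (w : InfinitePlace k) → Set (ι → w.Completion))
    (hUi : ∀ w, IsOpen (Ui w) ∧ (normT w.Completion B BL ⁻¹' Ui w).Nonempty)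
    (v₀ : HeightOneSpectrum (𝓞 k)) (hv₀ : v₀ ∉ S)
    (hsplit : ∀ W : HeightOneSpectrum (𝓞 k₁), W.under (𝓞 k) = v₀ → Nonempty (L →ₐ[k₁] W.adicCompletion k₁)) :
    ∃ T : k₁, (∀ v ∈ S, (fun i => algebraMap k (v.adicCompletion k) (B.repr T i)) ∈ Uf v) ∧
      (∀ w : InfinitePlace k, (fun i => algebraMap k w.Completion (B.repr T i)) ∈ Ui w) ∧
      ∀ W : HeightOneSpectrum (𝓞 k₁), W.under (𝓞 k) ∉ S →
        (W.under (𝓞 k) ≠ v₀ → W.valuation k₁ T ≤ 1) ∧
          (W.valuation k₁ T = 1 ∨ Nonempty (L →ₐ[k₁] W.adicCompletion k₁)) := by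
  classical
  obtain ⟨C, -, hC2, hC3⟩ := GrothLib.StrongApproxNF28.strongApprox_pi v₀ S hv₀
    (fun v => normT (v.adicCompletion k) B BL ⁻¹' Uf v)
    (fun v hv => ⟨(hUf v hv).1.preimage (continuous_normT _ B BL), (hUf v hv).2⟩)
    (fun w => normT w.Completion B BL ⁻¹' Ui w)
    (fun w => ⟨(hUi w).1.preimage (continuous_normT _ B BL), (hUi w).2⟩)
  -- a generator over the middle field
  obtain ⟨θ, hθ⟩ := Field.exists_primitive_element k₁ L
  let sh : (K : Type u) → [Field K] → [Algebra k K] → K → (Fin m → K) := fun K _ _ s i =>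
    algebraMap k K (C i) + s * algebraMap k K (BL.repr θ i)
  have hfin : {s : k | IntermediateField.adjoin k₁ {(∑ i, C i • BL i) + algebraMap k k₁ s • θ} ≠ ⊤}.Finite :=
    (GrothLib.DegOne28.finite_nongenerating L (∑ i, C i • BL i) θ hθ).preimage ((algebraMap k k₁).injective.injOn)
  obtain ⟨s, hs, -, hs2, hs3⟩ := GrothLib.DegOne28.strongApprox_avoid v₀ S hv₀
    (fun v => sh (v.adicCompletion k) ⁻¹' (normT (v.adicCompletion k) B BL ⁻¹' Uf v))
    (fun v hv => ⟨((hUf v hv).1.preimage (continuous_normT _ B BL)).preimage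
      (continuous_pi fun i => continuous_const.add (continuous_id.mul continuous_const)), 0, by
        simpa [sh] using hC2 v hv⟩)
    (fun w => sh w.Completion ⁻¹' (normT w.Completion B BL ⁻¹' Ui w))
    (fun w => ⟨((hUi w).1.preimage (continuous_normT _ B BL)).preimage
      (continuous_pi fun i => continuous_const.add (continuous_id.mul continuous_const)), 0, by
        simpa [sh] using hC3 w⟩)
    _ hfin
  let u := (∑ i, C i • BL i) + s • θ
  have hu : IntermediateField.adjoin k₁ {u} = ⊤ := by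
    have := not_not.mp hs
    rwa [algebraMap_smul] at this
  have hshN : ∀ (K : Type u) [Field K] [Algebra k K],
      normT K B BL (sh K (algebraMap k K s)) = fun i => algebraMap k K (B.repr (Algebra.norm k₁ u) i) := fun K _ _ => by
    rw [show sh K (algebraMap k K s) = fun i => algebraMap k K (C i + s * BL.repr θ i) from
      funext fun i => by simp only [sh, map_add, map_mul], normT_algebraMap]
    have : ∑ i, (C i + s * BL.repr θ i) • BL i = u := by
      simp only [u, add_smul, Finset.sum_add_distrib, mul_smul]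
      rw [← Finset.smul_sum, BL.sum_repr]
    rw [this]
  -- the two parameters
  let G : (K : Type u) → [Field K] → [Algebra k K] → K × K → (ι → K) := fun K _ _ p =>
    normT K B BL fun i => p.1 * algebraMap k K (BL.repr u i) + p.2 * algebraMap k K (BL.repr (1 : L) i)
  have hG : ∀ (K : Type u) [Field K] [Algebra k K] (a b : k),
      G K (algebraMap k K a, algebraMap k K b) =
        fun i => algebraMap k K (B.repr (Algebra.norm k₁ (a • u + b • (1 : L))) i) :=
    fun K _ _ a b => by
      simp only [G]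
      rw [show (fun i => algebraMap k K a * algebraMap k K (BL.repr u i) + algebraMap k K b * algebraMap k K (BL.repr 1 i)) =
          fun i => algebraMap k K (a * BL.repr u i + b * BL.repr (1 : L) i) from funext fun i => by simp only [map_add, map_mul],
        normT_algebraMap]
      have : ∑ i, (a * BL.repr u i + b * BL.repr (1 : L) i) • BL i = a • u + b • (1 : L) := by
        simp only [add_smul, Finset.sum_add_distrib, mul_smul]
        rw [← Finset.smul_sum, ← Finset.smul_sum, BL.sum_repr, BL.sum_repr]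
      rw [this]
  have hG10 : ∀ (K : Type u) [Field K] [Algebra k K],
      G K (1, 0) = fun i => algebraMap k K (B.repr (Algebra.norm k₁ u) i) := fun K _ _ => by
    rw [← map_one (algebraMap k K), ← map_zero (algebraMap k K), hG, one_smul, zero_smul, add_zero]
  have hboxf : ∀ v, ∃ O₁ O₂ : Set (HeightOneSpectrum.adicCompletion k v), v ∈ S →
      IsOpen O₁ ∧ IsOpen O₂ ∧ (1 : v.adicCompletion k) ∈ O₁ ∧ (0 : v.adicCompletion k) ∈ O₂ ∧
        O₁ ×ˢ O₂ ⊆ G (v.adicCompletion k) ⁻¹' Uf v := fun v => by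
    by_cases hv : v ∈ S
    · have hmem : ((1 : v.adicCompletion k), (0 : v.adicCompletion k)) ∈ G (v.adicCompletion k) ⁻¹' Uf v := by
        rw [Set.mem_preimage, hG10, ← hshN]; exact hs2 v hv
      obtain ⟨O₁, O₂, h⟩ := isOpen_prod_iff.mp ((hUf v hv).1.preimage ((continuous_normT _ B BL).comp
        (continuous_pi fun i => (continuous_fst.mul continuous_const).add (continuous_snd.mul continuous_const)))) 1 0 hmem
      exact ⟨O₁, O₂, fun _ => h⟩
    · exact ⟨∅, ∅, fun h => absurd h hv⟩
  have hboxi : ∀ w, ∃ O₁ O₂ : Set (InfinitePlace.Completion w),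
      IsOpen O₁ ∧ IsOpen O₂ ∧ (1 : w.Completion) ∈ O₁ ∧ (0 : w.Completion) ∈ O₂ ∧
        O₁ ×ˢ O₂ ⊆ G w.Completion ⁻¹' Ui w := fun w => by
    have hmem : ((1 : w.Completion), (0 : w.Completion)) ∈ G w.Completion ⁻¹' Ui w := by
      rw [Set.mem_preimage, hG10, ← hshN]; exact hs3 w
    exact isOpen_prod_iff.mp ((hUi w).1.preimage ((continuous_normT _ B BL).comp
      (continuous_pi fun i => (continuous_fst.mul continuous_const).add (continuous_snd.mul continuous_const)))) 1 0 hmem
  choose O₁ O₂ hO using hboxf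
  choose P₁ P₂ hP using hboxi
  let P := minpoly k₁ u
  have hPm : P.Monic := minpoly.monic (IsIntegral.of_finite k₁ u)
  obtain ⟨r, q, hrq⟩ := GrothLib.DegOne28.exists_bezout (Algebra.IsSeparable.isSeparable k₁ u : P.Separable)
  let E := ((GrothLib.DegOne28.badSet_finite P r q).toFinset.image fun W => W.under (𝓞 k)).filter fun v => v ∉ S ∧ v ≠ v₀
  -- bound on the first parameter at the bad places
  have hN : ∀ v : HeightOneSpectrum (𝓞 k), ∃ N : ℕ, ∀ a : k, v.valuation k a ≤ exp (-(N : ℤ)) →
      ∀ W : HeightOneSpectrum (𝓞 k₁), W.under (𝓞 k) = v → ∀ i, W.valuation k₁ (P.coeff i * algebraMap k k₁ a) < 1 := fun v => by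
    let N := ∑ p ∈ (finite_over (k₁ := k₁) v).toFinset ×ˢ P.support, ((log (p.1.valuation k₁ (P.coeff p.2))).toNat + 1)
    refine ⟨N, fun a ha W hW i => ?_⟩
    by_cases hi : i ∈ P.support
    · obtain ⟨e, he, hpow⟩ := exists_valuation_pow (k := k) W
      have hne : W.valuation k₁ (P.coeff i) ≠ 0 := (Valuation.ne_zero_iff _).mpr (mem_support_iff.mp hi)
      have hle := Finset.single_le_sum (f := fun p : HeightOneSpectrum (𝓞 k₁) × ℕ => (log (p.1.valuation k₁ (P.coeff p.2))).toNat + 1)
        (fun _ _ => Nat.zero_le _) (a := (W, i)) (s := (finite_over (k₁ := k₁) v).toFinset ×ˢ P.support)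
        (Finset.mem_product.mpr ⟨(finite_over v).mem_toFinset.mpr hW, hi⟩)
      rw [map_mul, hpow, hW]
      refine (mul_le_mul_right ((pow_le_pow_left₀ zero_le ha e).trans (pow_le_of_le_one zero_le
        (by rw [← exp_zero, exp_le_exp]; omega) he)) _).trans_lt ?_
      rw [← exp_log hne, ← exp_add, ← exp_zero, exp_lt_exp]
      simp only [N] at *
      omega
    · rw [notMem_support_iff.mp hi, zero_mul, map_zero]; exact zero_lt_one
  choose N hN using hN
  have hπ : ∀ v : HeightOneSpectrum (𝓞 k), ∃ π : k, v.valuation k π = exp (-1 : ℤ) := fun v => v.valuation_exists_uniformizer k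
  choose π hπ using hπ
  let A₁ : (v : HeightOneSpectrum (𝓞 k)) → Set (v.adicCompletion k) := fun v =>
    if v ∈ S then O₁ v else {y | Valued.v (y - 0) < 1} ∩
      {y | Valued.v (algebraMap k (v.adicCompletion k) ((π v)⁻¹ ^ N v) * y - 0) < 1}
  have hS₁ : v₀ ∉ S ∪ E := by simp [E, hv₀]
  obtain ⟨a, ha0, ha1, ha2, ha3⟩ := GrothLib.DegOne28.strongApprox_avoid v₀ (S ∪ E) hS₁ A₁ (fun v hv => by
    simp only [A₁]
    split_ifs with h
    · exact ⟨(hO v h).1, 1, (hO v h).2.2.1⟩
    · refine ⟨(GrothLib.StrongApproxNF28.isOpen_v_lt_one v 0).inter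
        ((GrothLib.StrongApproxNF28.isOpen_v_lt_one v 0).preimage (continuous_const.mul continuous_id)), 0, ?_⟩
      simp) P₁ (fun w => ⟨(hP w).1, 1, (hP w).2.2.1⟩) {0} (Set.finite_singleton 0)
  have ha : a ≠ 0 := ha0
  let Ea := (HeightOneSpectrum.Support.finite (𝓞 k) a⁻¹).toFinset.filter fun v => v ∉ S ∧ v ≠ v₀
  let A₂ : (v : HeightOneSpectrum (𝓞 k)) → Set (v.adicCompletion k) := fun v =>
    if v ∈ S then O₂ v else {y | Valued.v (y - 1) < 1}
  have hS₂ : v₀ ∉ S ∪ E ∪ Ea := by simp [E, Ea, hv₀]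
  obtain ⟨b, hb1, hb2, hb3⟩ := GrothLib.StrongApproxNF28.strongApprox v₀ (S ∪ E ∪ Ea) hS₂ A₂ (fun v hv => by
    simp only [A₂]
    split_ifs with h
    · exact ⟨(hO v h).2.1, 0, (hO v h).2.2.2.1⟩
    · exact ⟨GrothLib.StrongApproxNF28.isOpen_v_lt_one v 1, 1, by simp⟩) P₂ (fun w => ⟨(hP w).2.1, 0, (hP w).2.2.2.1⟩)
  let T := Algebra.norm k₁ (a • u + b • (1 : L))
  have haK : algebraMap k k₁ a ≠ 0 := (_root_.map_ne_zero _).mpr ha
  have hTform : T = (-algebraMap k k₁ a) ^ P.natDegree * P.eval (-algebraMap k k₁ b / algebraMap k k₁ a) := by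
    rw [show P.natDegree = finrank k₁ L from GrothLib.DegOne28.minpoly_natDegree_eq hu,
      ← GrothLib.DegOne28.norm_smul_add hu haK (algebraMap k k₁ b)]
    simp only [T, algebraMap_smul]
  have hb_one : ∀ v ∈ E ∪ Ea, v ∉ S → v.valuation k b = 1 := fun v hvE hv => by
    have hbE := hb2 v (by rw [Finset.union_assoc]; exact Finset.mem_union_right _ hvE)
    simp only [A₂, if_neg hv, Set.mem_ofPred_eq] at hbE
    rw [← map_one (algebraMap k (v.adicCompletion k)), ← map_sub, GrothLib.DegOne28.valued_algebraMap] at hbE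
    rw [← map_one (v.valuation k)]
    exact Valuation.map_eq_of_sub_lt _ (hbE.trans_eq (map_one _).symm)
  refine ⟨T, fun v hv => ?_, fun w => ?_, fun W hW => ?_⟩
  · have h1 := ha2 v (Finset.mem_union_left _ hv)
    have h2 := hb2 v (Finset.mem_union_left _ (Finset.mem_union_left _ hv))
    simp only [A₁, if_pos hv] at h1
    simp only [A₂, if_pos hv] at h2
    rw [← hG]
    exact (hO v hv).2.2.2.2 ⟨h1, h2⟩
  · rw [← hG]; exact (hP w).2.2.2.2 ⟨ha3 w, hb3 w⟩
  · rcases eq_or_ne (W.under (𝓞 k)) v₀ with h | hne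
    · exact ⟨fun h' => absurd h h', Or.inr (hsplit W h)⟩
    · suffices h : W.valuation k₁ T ≤ 1 ∧ (W.valuation k₁ T = 1 ∨ Nonempty (L →ₐ[k₁] W.adicCompletion k₁)) from
        ⟨fun _ => h.1, h.2⟩
      by_cases hE : W.under (𝓞 k) ∈ E
      · have haE := ha2 _ (Finset.mem_union_right _ hE)
        simp only [A₁, if_neg hW, Set.mem_inter_iff, Set.mem_ofPred_eq, sub_zero, GrothLib.DegOne28.valued_algebraMap,
          ← map_mul] at haE
        obtain ⟨hae, haN⟩ := haE
        rw [map_mul, map_pow, map_inv₀, hπ, ← exp_neg, ← exp_nsmul] at haN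
        have ha' : (W.under (𝓞 k)).valuation k a ≤ exp (-(N (W.under (𝓞 k)) : ℤ)) := by
          have h2 := mul_le_mul_right haN.le (exp (-(N (W.under (𝓞 k)) : ℤ)))
          rw [mul_one, ← mul_assoc, ← exp_add, nsmul_eq_mul] at h2
          simpa using h2
        have h1 : W.valuation k₁ T = 1 := by
          rw [hTform]
          exact GrothLib.DegOne28.val_form_eq_one W P hPm haK ((val_eq_one_iff W).mpr (hb_one _ (Finset.mem_union_left _ hE) hW))
            ((val_le_one_iff W).mpr hae.le) (hN _ a ha' W rfl)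
        exact ⟨h1.le, Or.inl h1⟩
      · have hbad : W ∉ GrothLib.DegOne28.badSet k₁ P r q := fun h => hE (Finset.mem_filter.mpr
          ⟨Finset.mem_image_of_mem _ ((GrothLib.DegOne28.badSet_finite P r q).mem_toFinset.mpr h), hW, hne⟩)
        have hPi' := GrothLib.DegOne28.coeff_le_one hbad (Q := P) (by simp)
        have hae : (W.under (𝓞 k)).valuation k a ≤ 1 := ha1 _ (by simp [hW, hE]) hne
        rcases hae.lt_or_eq with hlt | heq
        · have hEa : W.under (𝓞 k) ∈ Ea := by
            refine Finset.mem_filter.mpr ⟨(HeightOneSpectrum.Support.finite (𝓞 k) a⁻¹).mem_toFinset.mpr ?_, hW, hne⟩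
            show 1 < (W.under (𝓞 k)).valuation k a⁻¹
            rw [map_inv₀, one_lt_inv₀ (zero_lt_iff.mpr ((Valuation.ne_zero_iff _).mpr ha))]
            exact hlt
          have h1 : W.valuation k₁ T = 1 := by
            rw [hTform]
            refine GrothLib.DegOne28.val_form_eq_one W P hPm haK ((val_eq_one_iff W).mpr (hb_one _ (Finset.mem_union_right _ hEa) hW))
              ((val_le_one_iff W).mpr hae) fun i => ?_
            rw [map_mul]
            exact (mul_le_of_le_one_left' (hPi' i)).trans_lt ((val_lt_one_iff W).mpr hlt)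
          exact ⟨h1.le, Or.inl h1⟩
        · have hb : (W.under (𝓞 k)).valuation k b ≤ 1 := by
            by_cases hEa : W.under (𝓞 k) ∈ Ea
            · exact (hb_one _ (Finset.mem_union_right _ hEa) hW).le
            · exact hb1 _ (by simp [hW, hE, hEa]) hne
          have hc : W.valuation k₁ (-algebraMap k k₁ b / algebraMap k k₁ a) ≤ 1 := by
            rw [map_div₀, Valuation.map_neg, (val_eq_one_iff W).mpr heq, div_one]
            exact (val_le_one_iff W).mpr hb
          have hle := GrothLib.DegOne28.val_eval_le_one W P hPi' hc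
          rw [hTform, map_mul, map_pow, Valuation.map_neg, (val_eq_one_iff W).mpr heq, one_pow, one_mul]
          refine ⟨hle, hle.eq_or_lt.imp id fun h0 => ?_⟩
          obtain ⟨x, hx⟩ := GrothLib.DegOne28.exists_root_of_separable hrq hbad _ hc h0
          exact GrothLib.DegOne28.nonempty_algHom_of_root hu hx

end GrothLib.LocSplit28
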