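import Mathlib.RingTheory.Norm.Basic
import Mathlib.RingTheory.TensorProduct.Free
import Mathlib.RingTheory.AlgebraTower
import Mathlib.LinearAlgebra.StdBasis
import Mathlib.Topology.Algebra.Ring.Basic
import Mathlib.Topology.Instances.Matrix

/-!
# Norm forms of towers in coordinates
-/

set_option autoImplicit false
set_option linter.style.haveILetI false

universe u

open scoped TensorProduct
open Module

namespace GrothLib.LocSplit28

variable {k : Type u} [Field k] (K : Type u) [Field K] [Algebra k K]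
  (k₁ L : Type u) [Field k₁] [Field L] [Algebra k k₁] [Algebra k L] [Algebra k₁ L] [IsScalarTower k k₁ L]

/-- The base change of a tower. -/
noncomputable abbrev mapAlg : Algebra (K ⊗[k] k₁) (K ⊗[k] L) :=
  (Algebra.TensorProduct.map (AlgHom.id k K) (IsScalarTower.toAlgHom k k₁ L)).toRingHom.toAlgebra

theorem mapAlg_smul (a : K) (x : k₁) (b : K) (y : L) :
    letI := mapAlg (k := k) K k₁ L
    (a ⊗ₜ[k] x) • (b ⊗ₜ[k] y) = (a * b) ⊗ₜ[k] (x • y) := by
  letI := mapAlg (k := k) K k₁ L
  rw [Algebra.smul_def, RingHom.algebraMap_toAlgebra, Algebra.smul_def]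
  show Algebra.TensorProduct.map (AlgHom.id k K) (IsScalarTower.toAlgHom k k₁ L) (a ⊗ₜ[k] x) * _ = _
  rw [Algebra.TensorProduct.map_tmul, Algebra.TensorProduct.tmul_mul_tmul]
  rfl

theorem mapAlg_tower :
    letI := mapAlg (k := k) K k₁ L
    IsScalarTower K (K ⊗[k] k₁) (K ⊗[k] L) := by
  letI := mapAlg (k := k) K k₁ L
  refine IsScalarTower.of_algebraMap_eq fun c => ?_
  show c ⊗ₜ[k] (1 : L) = Algebra.TensorProduct.map (AlgHom.id k K) (IsScalarTower.toAlgHom k k₁ L) (c ⊗ₜ[k] (1 : k₁))
  rw [Algebra.TensorProduct.map_tmul, map_one]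
  rfl

variable [FiniteDimensional k k₁] [FiniteDimensional k₁ L]

/-- A basis of the base change of a tower. -/
theorem exists_basis :
    letI := mapAlg (k := k) K k₁ L
    ∃ b : Basis (Fin (finrank k₁ L)) (K ⊗[k] k₁) (K ⊗[k] L),
      ∀ j, b j = (1 : K) ⊗ₜ[k] Module.finBasis k₁ L j := by
  classical
  letI := mapAlg (k := k) K k₁ L
  haveI := mapAlg_tower (k := k) K k₁ L
  let β := Module.finBasis k₁ L
  let B1 := Module.finBasis k k₁
  let Φ : (Fin (finrank k₁ L) → K ⊗[k] k₁) →ₗ[K ⊗[k] k₁] K ⊗[k] L :=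
    Fintype.linearCombination (K ⊗[k] k₁) fun j => (1 : K) ⊗ₜ[k] β j
  let E := (Pi.basis fun _ : Fin (finrank k₁ L) => Algebra.TensorProduct.basis K B1).equiv
    (Algebra.TensorProduct.basis K (B1.smulTower β)) ((Equiv.sigmaEquivProd _ _).trans (Equiv.prodComm _ _))
  have hE : Φ.restrictScalars K = E.toLinearMap := by
    refine (Pi.basis fun _ : Fin (finrank k₁ L) => Algebra.TensorProduct.basis K B1).ext fun ⟨j, i⟩ => ?_
    rw [LinearEquiv.coe_coe, Basis.equiv_apply, LinearMap.restrictScalars_apply, Pi.basis_apply]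
    simp only [Φ, Fintype.linearCombination_apply_single, Algebra.TensorProduct.basis_apply, mapAlg_smul, one_mul]
    simp [Basis.smulTower_apply]
  have hbij : Function.Bijective Φ := by
    have : (⇑Φ) = ⇑E := congrArg DFunLike.coe hE
    rw [this]; exact E.bijective
  refine ⟨Basis.ofEquivFun (LinearEquiv.ofBijective Φ hbij).symm, fun j => ?_⟩
  rw [Basis.coe_ofEquivFun, LinearEquiv.symm_symm]
  show Φ (Pi.single j 1) = _
  simp [Φ, Fintype.linearCombination_apply_single]
  rfl

/-- The norm of a base change in a tower. -/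
theorem norm_one_tmul (y : L) :
    letI := mapAlg (k := k) K k₁ L
    Algebra.norm (K ⊗[k] k₁) ((1 : K) ⊗ₜ[k] y) = (1 : K) ⊗ₜ[k] Algebra.norm k₁ y := by
  classical
  letI := mapAlg (k := k) K k₁ L
  obtain ⟨b, hb⟩ := exists_basis (k := k) K k₁ L
  let β := Module.finBasis k₁ L
  rw [Algebra.norm_eq_matrix_det b, Algebra.norm_eq_matrix_det β]
  refine Eq.trans ?_ (AlgHom.map_det (Algebra.TensorProduct.includeRight (R := k) (A := K)) _).symm
  congr 1
  ext i j
  rw [Algebra.leftMulMatrix_eq_repr_mul, AlgHom.mapMatrix_apply, Matrix.map_apply, Algebra.leftMulMatrix_eq_repr_mul]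
  have : ((1 : K) ⊗ₜ[k] y) * b j = ∑ l, ((1 : K) ⊗ₜ[k] β.repr (y * β j) l) • b l := by
    simp only [hb, mapAlg_smul, one_mul]
    rw [← TensorProduct.tmul_sum, β.sum_repr, Algebra.TensorProduct.tmul_mul_tmul, one_mul]
  rw [this, Basis.repr_sum_self]
  rfl

variable {K k₁ L}

/-- The norm form of a tower in coordinates. -/
noncomputable def normT (K : Type u) [Field K] [Algebra k K] {ι κ : Type*} [Fintype κ] (B₁ : Basis ι k k₁)
    (BL : Basis κ k L) (c : κ → K) : ι → K :=
  letI := mapAlg (k := k) K k₁ L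
  fun i => (Algebra.TensorProduct.basis K B₁).repr
    (Algebra.norm (K ⊗[k] k₁) (∑ j, c j • Algebra.TensorProduct.basis K BL j)) i

theorem normT_repr {ι κ : Type*} [Fintype κ] (B₁ : Basis ι k k₁) (BL : Basis κ k L) (x : K ⊗[k] L) :
    normT K B₁ BL (fun j => (Algebra.TensorProduct.basis K BL).repr x j) = fun i =>
      letI := mapAlg (k := k) K k₁ L
      (Algebra.TensorProduct.basis K B₁).repr (Algebra.norm (K ⊗[k] k₁) x) i := by
  unfold normT
  rw [Basis.sum_repr]

omit [FiniteDimensional k k₁] in
theorem repr_one_tmul {ι : Type*} (B₁ : Basis ι k k₁) (x : k₁) (i : ι) :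
    (Algebra.TensorProduct.basis K B₁).repr ((1 : K) ⊗ₜ[k] x) i = algebraMap k K (B₁.repr x i) := by
  simp [Algebra.TensorProduct.basis_repr_tmul]

theorem normT_algebraMap {ι κ : Type*} [Fintype κ] (B₁ : Basis ι k k₁) (BL : Basis κ k L) (C : κ → k) :
    normT K B₁ BL (fun j => algebraMap k K (C j)) =
      fun i => algebraMap k K (B₁.repr (Algebra.norm k₁ (∑ j, C j • BL j)) i) := by
  funext i
  have : ∑ j, algebraMap k K (C j) • Algebra.TensorProduct.basis K BL j = (1 : K) ⊗ₜ[k] ∑ j, C j • BL j := by
    rw [TensorProduct.tmul_sum]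
    refine Finset.sum_congr rfl fun j _ => ?_
    rw [Algebra.TensorProduct.basis_apply, TensorProduct.smul_tmul', smul_eq_mul, mul_one,
      TensorProduct.tmul_smul, TensorProduct.smul_tmul', Algebra.smul_def, mul_one]
  unfold normT
  rw [this, norm_one_tmul, repr_one_tmul]

section continuity

variable [TopologicalSpace K] [IsTopologicalRing K] {X : Type*} [TopologicalSpace X]

/-- Continuity of all coordinates. -/
def CoordContinuous {ι : Type*} (B₁ : Basis ι k k₁) (f : X → K ⊗[k] k₁) : Prop :=
  ∀ i, Continuous fun x => (Algebra.TensorProduct.basis K B₁).repr (f x) i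

variable {ι : Type*} [Fintype ι] {B₁ : Basis ι k k₁}

theorem coordContinuous_const (a : K ⊗[k] k₁) : CoordContinuous B₁ fun _ : X => a :=
  fun _ => continuous_const

theorem coordContinuous_sum {J : Type*} (s : Finset J) {f : J → X → K ⊗[k] k₁}
    (h : ∀ j ∈ s, CoordContinuous B₁ (f j)) : CoordContinuous B₁ fun x => ∑ j ∈ s, f j x := fun i => by
  simp only [map_sum, Finsupp.finsetSum_apply]
  exact continuous_finsetSum _ fun j hj => h j hj i

theorem coordContinuous_mul {f g : X → K ⊗[k] k₁} (hf : CoordContinuous B₁ f) (hg : CoordContinuous B₁ g) :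
    CoordContinuous B₁ fun x => f x * g x := fun i => by
  let B := Algebra.TensorProduct.basis K B₁
  have : (fun x => B.repr (f x * g x) i) =
      fun x => ∑ p, ∑ q, B.repr (f x) p * (B.repr (g x) q * B.repr (B p * B q) i) := by
    funext x
    conv_lhs => rw [← B.sum_repr (f x), ← B.sum_repr (g x), Finset.sum_mul_sum]
    simp only [smul_mul_assoc, mul_smul_comm, map_sum, map_smul, Finsupp.finsetSum_apply, Finsupp.smul_apply, smul_eq_mul]
    exact Finset.sum_congr rfl fun p _ => Finset.sum_congr rfl fun q _ => mul_left_comm _ _ _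
  show Continuous fun x => B.repr (f x * g x) i
  rw [this]
  exact continuous_finsetSum _ fun p _ => continuous_finsetSum _ fun q _ => (hf p).mul ((hg q).mul continuous_const)

theorem coordContinuous_prod {J : Type*} (s : Finset J) {f : J → X → K ⊗[k] k₁}
    (h : ∀ j ∈ s, CoordContinuous B₁ (f j)) : CoordContinuous B₁ fun x => ∏ j ∈ s, f j x := by
  classical
  induction s using Finset.induction_on with
  | empty => simp only [Finset.prod_empty]; exact coordContinuous_const 1
  | insert a s has ih =>
    simp only [Finset.prod_insert has]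
    exact coordContinuous_mul (h a (Finset.mem_insert_self a s)) (ih fun j hj => h j (Finset.mem_insert_of_mem hj))

end continuity

theorem continuous_normT (K : Type u) [Field K] [Algebra k K] [TopologicalSpace K] [IsTopologicalRing K]
    {ι κ : Type*} [Fintype ι] [Fintype κ] (B₁ : Basis ι k k₁) (BL : Basis κ k L) :
    Continuous (normT K B₁ BL : (κ → K) → ι → K) := by
  classical
  letI := mapAlg (k := k) K k₁ L
  haveI := mapAlg_tower (k := k) K k₁ L
  obtain ⟨b, -⟩ := exists_basis (k := k) K k₁ L
  refine continuous_pi fun i => ?_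
  suffices h : CoordContinuous B₁ fun c : κ → K =>
      Algebra.norm (K ⊗[k] k₁) (∑ j, c j • Algebra.TensorProduct.basis K BL j) from h i
  simp only [Algebra.norm_eq_matrix_det b, Matrix.det_apply]
  refine coordContinuous_sum _ fun σ _ => ?_
  rw [show (fun c : κ → K => Equiv.Perm.sign σ • ∏ l, Algebra.leftMulMatrix b (∑ j, c j • Algebra.TensorProduct.basis K BL j) (σ l) l) =
    fun c : κ → K => ((Equiv.Perm.sign σ : ℤ) : K ⊗[k] k₁) * ∏ l, Algebra.leftMulMatrix b (∑ j, c j • Algebra.TensorProduct.basis K BL j) (σ l) l from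
    funext fun c => by rw [Units.smul_def, zsmul_eq_mul]]
  refine coordContinuous_mul (coordContinuous_const _) (coordContinuous_prod _ fun l _ => ?_)
  simp only [map_sum, Matrix.sum_apply]
  refine coordContinuous_sum _ fun j _ => ?_
  intro q
  have h : ∀ c : κ → K, Algebra.leftMulMatrix b (c j • Algebra.TensorProduct.basis K BL j) (σ l) l =
      c j • Algebra.leftMulMatrix b (Algebra.TensorProduct.basis K BL j) (σ l) l := fun c => by
    have := LinearMap.map_smul_of_tower (Algebra.leftMulMatrix b).toLinearMap (c j) (Algebra.TensorProduct.basis K BL j)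
    exact (congrFun (congrFun this (σ l)) l).trans (Matrix.smul_apply _ _ _ _)
  simp only [h, map_smul, Finsupp.smul_apply, smul_eq_mul]
  exact (continuous_apply j).mul continuous_const

end GrothLib.LocSplit28
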