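import Groth.Agent.Lib.LocSplit28.Places
import Groth.Agent.Lib.LocSplit28.TowerNorm
import Groth.Agent.Lib.UnitNorm28.Global
import Groth.Agent.Lib.DegOne28.Near

/-!
# Units are close to norms at unramified places, in coordinates
-/

set_option autoImplicit false
set_option linter.style.haveILetI false

universe u

open NumberField IsDedekindDomain WithZero Module
open scoped TensorProduct

namespace GrothLib.LocSplit28

variable {k k₁ L : Type u} [Field k] [NumberField k] [Field k₁] [NumberField k₁] [Algebra k k₁]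
  [Field L] [NumberField L] [Algebra k₁ L] [Algebra k L] [IsScalarTower k k₁ L]

/-- Units at an unramified place are norms to any precision, in coordinates over the base. -/
theorem exists_norm_near [FiniteDimensional k k₁] [FiniteDimensional k₁ L] {ι κ : Type*} [Finite ι] [Fintype κ]
    (B₁ : Basis ι k k₁) (BL : Basis κ k L) (v : HeightOneSpectrum (𝓞 k))
    (hram : ∀ W : HeightOneSpectrum (𝓞 k₁), W.under (𝓞 k) = v → ∀ Q : Ideal (𝓞 L), Q.IsPrime → Q ≠ ⊥ →
      Q.LiesOver W.asIdeal → Q.ramificationIdx (𝓞 k₁) = 1)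
    (c : k₁) (hc : ∀ W : HeightOneSpectrum (𝓞 k₁), W.under (𝓞 k) = v → W.valuation k₁ c = 1)
    {U : Set (ι → v.adicCompletion k)} (hU : IsOpen U)
    (hcU : (fun i => algebraMap k (v.adicCompletion k) (B₁.repr c i)) ∈ U) :
    (normT (v.adicCompletion k) B₁ BL ⁻¹' U).Nonempty := by
  classical
  obtain ⟨n, hn⟩ := exists_depth B₁ v c hU hcU
  let β := Module.finBasis k₁ L
  have hy : ∀ W : HeightOneSpectrum (𝓞 k₁), ∃ y : L, W.under (𝓞 k) = v →
      W.valuation k₁ (Algebra.norm k₁ y - c) ≤ exp (-(n : ℤ)) := fun W => by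
    by_cases hW : W.under (𝓞 k) = v
    · obtain ⟨y, hy⟩ := GrothLib.UnitNorm28.exists_norm_val_sub_le W (hram W hW) c (hc W hW) n
      exact ⟨y, fun _ => hy⟩
    · exact ⟨1, fun h => absurd h hW⟩
  choose y hy using hy
  -- one element close to all of them
  have hN : ∀ W : HeightOneSpectrum (𝓞 k₁), ∃ N : ℕ, ∀ d : Fin (finrank k₁ L) → k₁,
      (∀ j, W.valuation k₁ (d j - β.repr (y W) j) ≤ exp (-(N : ℤ))) →
        W.valuation k₁ (Algebra.norm k₁ (∑ j, d j • β j) - Algebra.norm k₁ (y W)) ≤ exp (-(n : ℤ)) := fun W => by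
    let F := W.adicCompletion k₁
    obtain ⟨π, hπ⟩ := W.valuation_exists_uniformizer k₁
    let O : Set F := {z : F | Valued.v (algebraMap k₁ F (π⁻¹ ^ n) * (z - algebraMap k₁ F (Algebra.norm k₁ (y W))) - 0) < 1}
    have hopen : IsOpen O := (GrothLib.StrongApproxNF28.isOpen_v_lt_one W 0).preimage
      (continuous_const.mul (continuous_id.sub continuous_const))
    have hmem : (fun j => algebraMap k₁ F (β.repr (y W) j)) ∈
        GrothLib.DegOne28.normForm F β ⁻¹' O := by
      simp [O, GrothLib.DegOne28.normForm_algebraMap, β.sum_repr]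
    obtain ⟨u, hu, hsub⟩ := isOpen_pi_iff'.mp (hopen.preimage (GrothLib.DegOne28.continuous_normForm F β)) _ hmem
    choose N hN using fun j => GrothLib.StrongApproxNF28.exists_ball_subset (hu j).1 (hu j).2
    refine ⟨Finset.univ.sup N, fun d hd => ?_⟩
    have := hsub (show (fun j => algebraMap k₁ F (d j)) ∈ Set.univ.pi u from fun j _ => hN j _ (by
      rw [← map_sub, GrothLib.DegOne28.valued_algebraMap]
      refine (hd j).trans ?_
      rw [exp_le_exp]
      have := Finset.le_sup (f := N) (Finset.mem_univ j)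
      omega))
    simp only [O, Set.mem_preimage, Set.mem_ofPred_eq, GrothLib.DegOne28.normForm_algebraMap, sub_zero] at this
    rw [← map_sub, ← map_mul, GrothLib.DegOne28.valued_algebraMap, map_mul, map_pow, map_inv₀, hπ, ← exp_neg, ← exp_nsmul] at this
    have h2 := mul_le_mul_right this.le (exp (-(n : ℤ)))
    rw [mul_one, ← mul_assoc, ← exp_add, nsmul_eq_mul] at h2
    simpa using h2
  choose N hN using hN
  let T := (finite_over (k₁ := k₁) v).toFinset
  choose d _ hd using fun j => GrothLib.StrongApproxNF28.exists_near_finite T (fun W => β.repr (y W) j) (T.sup N)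
  let z := ∑ j, d j • β j
  refine ⟨fun j => algebraMap k (v.adicCompletion k) (BL.repr z j), ?_⟩
  rw [Set.mem_preimage, normT_algebraMap, BL.sum_repr]
  refine hn _ fun W hW => ?_
  have hWT : W ∈ T := (finite_over v).mem_toFinset.mpr hW
  rw [show Algebra.norm k₁ z - c = (Algebra.norm k₁ z - Algebra.norm k₁ (y W)) + (Algebra.norm k₁ (y W) - c) by ring]
  refine Valuation.map_add_le _ (hN W d fun j => (hd j W hWT).trans ?_) (hy W hW)
  rw [exp_le_exp]
  have := Finset.le_sup (f := N) hWT
  omega

end GrothLib.LocSplit28
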