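import Groth.Agent.Lib.LocSplit28.Cases

/-!
# Two linear polynomials
-/

set_option autoImplicit false
set_option linter.style.haveILetI false

universe u

open NumberField IsDedekindDomain WithZero Module
open scoped TensorProduct

namespace GrothLib.LocSplit28

variable {k : Type u} [Field k] [NumberField k] {k₁ L₁ : Type u} [Field k₁] [NumberField k₁] [Algebra k k₁]
  [Field L₁] [NumberField L₁] [Algebra k₁ L₁] [Algebra k L₁] [IsScalarTower k k₁ L₁]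
  {k₂ L₂ : Type u} [Field k₂] [NumberField k₂] [Algebra k k₂]
  [Field L₂] [NumberField L₂] [Algebra k₂ L₂] [Algebra k L₂] [IsScalarTower k k₂ L₂]
  {Sf : Finset (HeightOneSpectrum (𝓞 k))}

/-- Two extensions of degree one. -/
theorem casePair (h1 : finrank k k₁ = 1) (h2 : finrank k k₂ = 1) (α₁ α₂ : k) (hα : α₁ ≠ α₂)
    (b₁ : k₁) (hb₁ : b₁ ≠ 0) (hg₁ : Good k₁ L₁ Sf b₁) (b₂ : k₂) (hb₂ : b₂ ≠ 0) (hg₂ : Good k₂ L₂ Sf b₂)
    (Si : Finset (InfinitePlace k)) (tf : (v : HeightOneSpectrum (𝓞 k)) → v.adicCompletion k)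
    (ti : (w : InfinitePlace k) → w.Completion)
    (htf₁ : ∀ v ∈ Sf, letI := mapAlg (k := k) (v.adicCompletion k) k₁ L₁
      ∃ x : (v.adicCompletion k) ⊗[k] L₁, IsUnit x ∧ Algebra.norm ((v.adicCompletion k) ⊗[k] k₁) x =
        (1 : v.adicCompletion k) ⊗ₜ[k] b₁ * (tf v ⊗ₜ[k] (1 : k₁) - (1 : v.adicCompletion k) ⊗ₜ[k] algebraMap k k₁ α₁))
    (hti₁ : ∀ w ∈ Si, letI := mapAlg (k := k) w.Completion k₁ L₁
      ∃ x : w.Completion ⊗[k] L₁, IsUnit x ∧ Algebra.norm (w.Completion ⊗[k] k₁) x =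
        (1 : w.Completion) ⊗ₜ[k] b₁ * (ti w ⊗ₜ[k] (1 : k₁) - (1 : w.Completion) ⊗ₜ[k] algebraMap k k₁ α₁))
    (htf₂ : ∀ v ∈ Sf, letI := mapAlg (k := k) (v.adicCompletion k) k₂ L₂
      ∃ x : (v.adicCompletion k) ⊗[k] L₂, IsUnit x ∧ Algebra.norm ((v.adicCompletion k) ⊗[k] k₂) x =
        (1 : v.adicCompletion k) ⊗ₜ[k] b₂ * (tf v ⊗ₜ[k] (1 : k₂) - (1 : v.adicCompletion k) ⊗ₜ[k] algebraMap k k₂ α₂))
    (hti₂ : ∀ w ∈ Si, letI := mapAlg (k := k) w.Completion k₂ L₂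
      ∃ x : w.Completion ⊗[k] L₂, IsUnit x ∧ Algebra.norm (w.Completion ⊗[k] k₂) x =
        (1 : w.Completion) ⊗ₜ[k] b₂ * (ti w ⊗ₜ[k] (1 : k₂) - (1 : w.Completion) ⊗ₜ[k] algebraMap k k₂ α₂))
    (Uf : (v : HeightOneSpectrum (𝓞 k)) → Set (v.adicCompletion k)) (hUf : ∀ v ∈ Sf, IsOpen (Uf v) ∧ tf v ∈ Uf v)
    (Ui : (w : InfinitePlace k) → Set w.Completion) (hUi : ∀ w ∈ Si, IsOpen (Ui w) ∧ ti w ∈ Ui w)
    (choice : ∀ Z : Finset (HeightOneSpectrum (𝓞 k)), ∃ v₀, v₀ ∉ Z ∧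
      (∀ W : HeightOneSpectrum (𝓞 k₁), W.under (𝓞 k) = v₀ → Nonempty (L₁ →ₐ[k₁] W.adicCompletion k₁)) ∧
      (∀ W : HeightOneSpectrum (𝓞 k₂), W.under (𝓞 k) = v₀ → Nonempty (L₂ →ₐ[k₂] W.adicCompletion k₂))) :
    ∃ t₀ : k, (∀ v ∈ Sf, algebraMap k (v.adicCompletion k) t₀ ∈ Uf v) ∧
      (∀ w ∈ Si, algebraMap k w.Completion t₀ ∈ Ui w) ∧
      (∀ W : HeightOneSpectrum (𝓞 k₁), W.valuation k₁ (algebraMap k k₁ t₀ - algebraMap k k₁ α₁) < 1 →
        W.under (𝓞 k) ∈ Sf ∨ Nonempty (L₁ →ₐ[k₁] W.adicCompletion k₁)) ∧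
      (∀ W : HeightOneSpectrum (𝓞 k₂), W.valuation k₂ (algebraMap k k₂ t₀ - algebraMap k k₂ α₂) < 1 →
        W.under (𝓞 k) ∈ Sf ∨ Nonempty (L₂ →ₐ[k₂] W.adicCompletion k₂)) := by
  classical
  haveI : FiniteDimensional k k₁ := Module.Finite.of_restrictScalars_finite ℚ _ _
  haveI : FiniteDimensional k₁ L₁ := Module.Finite.of_restrictScalars_finite ℚ _ _
  haveI : FiniteDimensional k L₁ := Module.Finite.of_restrictScalars_finite ℚ _ _
  haveI : FiniteDimensional k k₂ := Module.Finite.of_restrictScalars_finite ℚ _ _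
  haveI : FiniteDimensional k₂ L₂ := Module.Finite.of_restrictScalars_finite ℚ _ _
  haveI : FiniteDimensional k L₂ := Module.Finite.of_restrictScalars_finite ℚ _ _
  obtain ⟨B₁, hB₁0, hB₁⟩ := exists_basis_single h1 hb₁
  obtain ⟨B₂, hB₂0, hB₂⟩ := exists_basis_single h2 hb₂
  have hB₁b : B₁.repr b₁ 0 = 1 := by rw [← hB₁0, B₁.repr_self, Finsupp.single_eq_same]
  have hB₂b : B₂.repr b₂ 0 = 1 := by rw [← hB₂0, B₂.repr_self, Finsupp.single_eq_same]
  have hB₁ba : B₁.repr (b₁ * algebraMap k k₁ α₁) 0 = α₁ := by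
    rw [mul_comm, ← Algebra.smul_def, map_smul, Finsupp.smul_apply, hB₁b, smul_eq_mul, mul_one]
  have hB₂ba : B₂.repr (b₂ * algebraMap k k₂ α₂) 0 = α₂ := by
    rw [mul_comm, ← Algebra.smul_def, map_smul, Finsupp.smul_apply, hB₂b, smul_eq_mul, mul_one]
  let δ := α₂ - α₁
  have hδ : δ ≠ 0 := sub_ne_zero.mpr hα.symm
  let E := (HeightOneSpectrum.Support.finite (𝓞 k) δ⁻¹).toFinset.filter (· ∉ Sf)
  obtain ⟨v₀, hv₀, hsplit₁, hsplit₂⟩ := choice (Sf ∪ E)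
  let F : (K : Type u) → [Field K] → [Algebra k K] → K × K → K := fun K _ _ p =>
    algebraMap k K α₁ + p.1 * algebraMap k K δ / (p.1 - p.2)
  have hbox : ∀ (K : Type u) [Field K] [Algebra k K] [TopologicalSpace K] [IsTopologicalDivisionRing K] [T1Space K]
      (t : K) (U : Set K), IsOpen U → t ∈ U →
      ∃ O₁ O₂ : Set K, IsOpen O₁ ∧ IsOpen O₂ ∧ t - algebraMap k K α₁ ∈ O₁ ∧ t - algebraMap k K α₂ ∈ O₂ ∧
        ∀ p₁ ∈ O₁, ∀ p₂ ∈ O₂, p₁ ≠ p₂ ∧ F K (p₁, p₂) ∈ U := fun K _ _ _ _ _ t U hU ht => by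
    have hne : t - algebraMap k K α₁ - (t - algebraMap k K α₂) = algebraMap k K δ := by
      simp only [δ, map_sub]; ring
    have hδK : algebraMap k K δ ≠ 0 := (_root_.map_ne_zero _).mpr hδ
    have hop : IsOpen ({p : K × K | p.1 - p.2 ≠ 0} ∩ F K ⁻¹' U) := by
      refine ContinuousOn.isOpen_inter_preimage ?_ (isOpen_ne.preimage (continuous_fst.sub continuous_snd)) hU
      exact continuousOn_const.add ((continuous_fst.mul continuous_const).continuousOn.div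
        (continuous_fst.sub continuous_snd).continuousOn fun p hp => hp)
    obtain ⟨O₁, O₂, h1, h2, m1, m2, hsub⟩ := isOpen_prod_iff.mp hop (t - algebraMap k K α₁) (t - algebraMap k K α₂)
      ⟨by show _ - _ ≠ (0 : K); rw [hne]; exact hδK, by
        show algebraMap k K α₁ + (t - algebraMap k K α₁) * algebraMap k K δ / _ ∈ U
        rw [hne, mul_div_cancel_right₀ _ hδK, add_sub_cancel]; exact ht⟩
    refine ⟨O₁, O₂, h1, h2, m1, m2, fun p₁ hp₁ p₂ hp₂ => ?_⟩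
    obtain ⟨hp, hp'⟩ := hsub (Set.mk_mem_prod hp₁ hp₂)
    exact ⟨sub_ne_zero.mp hp, hp'⟩
  -- places in Sf
  have hf : ∀ v, ∃ O₁ O₂ : Set (HeightOneSpectrum.adicCompletion k v), v ∈ Sf →
      IsOpen O₁ ∧ IsOpen O₂ ∧ tf v - algebraMap k _ α₁ ∈ O₁ ∧ tf v - algebraMap k _ α₂ ∈ O₂ ∧
        ∀ p₁ ∈ O₁, ∀ p₂ ∈ O₂, p₁ ≠ p₂ ∧ F (v.adicCompletion k) (p₁, p₂) ∈ Uf v := fun v => by
    by_cases hv : v ∈ Sf
    · obtain ⟨O₁, O₂, h⟩ := hbox _ (tf v) (Uf v) (hUf v hv).1 (hUf v hv).2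
      exact ⟨O₁, O₂, fun _ => h⟩
    · exact ⟨∅, ∅, fun h => absurd h hv⟩
  choose O₁ O₂ hO using hf
  -- infinite places
  obtain ⟨z₁, z₂, hz⟩ : ∃ (z₁ : L₁) (z₂ : L₂), B₁.repr (Algebra.norm k₁ z₁) 0 ≠ B₂.repr (Algebra.norm k₂ z₂) 0 := by
    by_cases h : B₁.repr 1 0 = B₂.repr 1 0
    · refine ⟨1, algebraMap k₂ L₂ (algebraMap k k₂ 2), ?_⟩
      rw [map_one, Algebra.norm_algebraMap, ← map_pow, h, Algebra.algebraMap_eq_smul_one, map_smul, Finsupp.smul_apply,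
        smul_eq_mul]
      intro heq
      have h1 : B₂.repr 1 0 ≠ 0 := fun h0 => by simpa [h0] using hB₂ 1
      have h2 : (2 : k) ^ finrank k₂ L₂ = 1 := mul_right_cancel₀ h1 (by rw [one_mul]; exact heq.symm)
      have h3 : ((2 ^ finrank k₂ L₂ : ℕ) : k) = ((1 : ℕ) : k) := by push_cast; exact h2
      have h4 := Nat.cast_injective h3
      exact absurd h4 (Nat.one_lt_two_pow Module.finrank_pos.ne').ne'
    · exact ⟨1, 1, by rw [map_one (Algebra.norm k₁), map_one (Algebra.norm k₂)]; exact h⟩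
  have hi : ∀ w, ∃ P₁ P₂ : Set (InfinitePlace.Completion w), IsOpen P₁ ∧ IsOpen P₂ ∧
      (normT w.Completion B₁ (Module.finBasis k L₁) ⁻¹' {c | c 0 ∈ P₁}).Nonempty ∧
      (normT w.Completion B₂ (Module.finBasis k L₂) ⁻¹' {c | c 0 ∈ P₂}).Nonempty ∧
      ∀ p₁ ∈ P₁, ∀ p₂ ∈ P₂, p₁ ≠ p₂ ∧ (w ∈ Si → F w.Completion (p₁, p₂) ∈ Ui w) := fun w => by
    by_cases hw : w ∈ Si
    · obtain ⟨P₁, P₂, h1, h2, m1, m2, hP⟩ := hbox _ (ti w) (Ui w) (hUi w hw).1 (hUi w hw).2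
      refine ⟨P₁, P₂, h1, h2, target_nonempty B₁ _ b₁ _ (ti w) ?_ (hti₁ w hw),
        target_nonempty B₂ _ b₂ _ (ti w) ?_ (hti₂ w hw), fun p hp q hq => ⟨(hP p hp q hq).1, fun _ => (hP p hp q hq).2⟩⟩
      · simp only [Set.mem_ofPred_eq, hB₁b, hB₁ba, map_one, mul_one]; exact m1
      · simp only [Set.mem_ofPred_eq, hB₂b, hB₂ba, map_one, mul_one]; exact m2
    · have hne : algebraMap k w.Completion (B₁.repr (Algebra.norm k₁ z₁) 0) ≠
          algebraMap k w.Completion (B₂.repr (Algebra.norm k₂ z₂) 0) := (algebraMap k w.Completion).injective.ne hz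
      obtain ⟨P₁, P₂, h1, h2, m1, m2, hd⟩ := t2_separation hne
      refine ⟨P₁, P₂, h1, h2, ⟨fun j => algebraMap k w.Completion ((Module.finBasis k L₁).repr z₁ j), ?_⟩,
        ⟨fun j => algebraMap k w.Completion ((Module.finBasis k L₂).repr z₂ j), ?_⟩,
        fun p hp q hq => ⟨fun h => Set.disjoint_left.mp hd hp (h ▸ hq), fun h => absurd h hw⟩⟩
      · rw [Set.mem_preimage, normT_algebraMap, (Module.finBasis k L₁).sum_repr]; exact m1
      · rw [Set.mem_preimage, normT_algebraMap, (Module.finBasis k L₂).sum_repr]; exact m2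
  choose P₁ P₂ hP using hi
  -- bad places
  let Ub : (v : HeightOneSpectrum (𝓞 k)) → Set (v.adicCompletion k) := fun v =>
    {y | Valued.v (y - 1) < 1} ∩ {y | Valued.v (algebraMap k (v.adicCompletion k) δ⁻¹ * (y - 1) - 0) < 1}
  have hUbopen : ∀ v, IsOpen (Ub v) := fun v => (GrothLib.StrongApproxNF28.isOpen_v_lt_one v 1).inter
    ((GrothLib.StrongApproxNF28.isOpen_v_lt_one v 0).preimage (continuous_const.mul (continuous_id.sub continuous_const)))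
  have hUbmem : ∀ v : HeightOneSpectrum (𝓞 k), (1 : v.adicCompletion k) ∈ Ub v := fun v => by
    simp only [Ub, Set.mem_inter_iff, Set.mem_ofPred_eq, sub_self, mul_zero, map_zero]
    exact ⟨zero_lt_one, zero_lt_one⟩
  have c0 : ∀ (K : Type u) [TopologicalSpace K], Continuous fun c : Fin 1 → K => c 0 := fun K _ => continuous_apply 0
  obtain ⟨T₁, hT₁f, hT₁i, hT₁⟩ := near (L := L₁) B₁ (Module.finBasis k L₁) (Sf ∪ E)
    (fun v => {c | c 0 ∈ if v ∈ Sf then O₁ v else Ub v})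
    (fun v hv => by
      split_ifs with h
      · refine ⟨(hO v h).1.preimage (c0 _), target_nonempty B₁ _ b₁ _ (tf v) ?_ (htf₁ v h)⟩
        simp only [Set.mem_ofPred_eq, hB₁b, hB₁ba, map_one, mul_one]; exact (hO v h).2.2.1
      · refine ⟨(hUbopen v).preimage (c0 _), exists_norm_near B₁ _ v (fun W hW => hg₁.unram W (hW ▸ h)) b₁
          (fun W hW => hg₁.unit W (hW ▸ h)) ((hUbopen v).preimage (c0 _)) ?_⟩
        show algebraMap k (v.adicCompletion k) (B₁.repr b₁ 0) ∈ Ub v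
        rw [hB₁b, map_one]; exact hUbmem v)
    (fun w => {c | c 0 ∈ P₁ w}) (fun w => ⟨(hP w).1.preimage (c0 _), (hP w).2.2.1⟩)
    v₀ hv₀ hsplit₁
  obtain ⟨T₂, hT₂f, hT₂i, hT₂⟩ := near (L := L₂) B₂ (Module.finBasis k L₂) (Sf ∪ E)
    (fun v => {c | c 0 ∈ if v ∈ Sf then O₂ v else Ub v})
    (fun v hv => by
      split_ifs with h
      · refine ⟨(hO v h).2.1.preimage (c0 _), target_nonempty B₂ _ b₂ _ (tf v) ?_ (htf₂ v h)⟩
        simp only [Set.mem_ofPred_eq, hB₂b, hB₂ba, map_one, mul_one]; exact (hO v h).2.2.2.1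
      · refine ⟨(hUbopen v).preimage (c0 _), exists_norm_near B₂ _ v (fun W hW => hg₂.unram W (hW ▸ h)) b₂
          (fun W hW => hg₂.unit W (hW ▸ h)) ((hUbopen v).preimage (c0 _)) ?_⟩
        show algebraMap k (v.adicCompletion k) (B₂.repr b₂ 0) ∈ Ub v
        rw [hB₂b, map_one]; exact hUbmem v)
    (fun w => {c | c 0 ∈ P₂ w}) (fun w => ⟨(hP w).2.1.preimage (c0 _), (hP w).2.2.2.1⟩)
    v₀ hv₀ hsplit₂
  let r₁ := B₁.repr T₁ 0
  let r₂ := B₂.repr T₂ 0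
  have hne : r₁ - r₂ ≠ 0 := fun h => by
    obtain ⟨w⟩ := (inferInstance : Nonempty (InfinitePlace k))
    exact ((hP w).2.2.2.2 _ (hT₁i w) _ (hT₂i w)).1 (congrArg (algebraMap k w.Completion) (sub_eq_zero.mp h))
  have hF : ∀ (K : Type u) [Field K] [Algebra k K],
      algebraMap k K (α₁ + r₁ * δ / (r₁ - r₂)) = F K (algebraMap k K r₁, algebraMap k K r₂) := fun K _ _ => by
    simp only [F, map_add, map_div₀, map_mul, map_sub]
  refine ⟨α₁ + r₁ * δ / (r₁ - r₂), fun v hv => ?_, fun w hw => ?_, ?_⟩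
  · rw [hF]
    have h1 := hT₁f v (Finset.mem_union_left _ hv)
    have h2 := hT₂f v (Finset.mem_union_left _ hv)
    simp only [if_pos hv, Set.mem_ofPred_eq] at h1 h2
    exact ((hO v hv).2.2.2.2 _ h1 _ h2).2
  · rw [hF]; exact ((hP w).2.2.2.2 _ (hT₁i w) _ (hT₂i w)).2 hw
  -- the key estimate
  have key : ∀ v : HeightOneSpectrum (𝓞 k), v ∉ Sf → v ≠ v₀ → ∀ r, (r = r₁ ∨ r = r₂) → v.valuation k r = 1 ∨ v ∈ E →
      (v ∉ E → v.valuation k r₁ ≤ 1 ∧ v.valuation k r₂ ≤ 1) → ¬ v.valuation k (r * δ / (r₁ - r₂)) < 1 := by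
    intro v hv hv0 r hr hr1 hle hlt
    have hδv : v.valuation k δ ≠ 0 := (Valuation.ne_zero_iff _).mpr hδ
    have hnev : v.valuation k (r₁ - r₂) ≠ 0 := (Valuation.ne_zero_iff _).mpr hne
    rw [map_div₀, div_lt_one₀ (zero_lt_iff.mpr hnev), map_mul] at hlt
    by_cases hE : v ∈ E
    · have h1 := hT₁f v (Finset.mem_union_right _ hE)
      have h2 := hT₂f v (Finset.mem_union_right _ hE)
      simp only [if_neg hv, Ub, Set.mem_ofPred_eq, Set.mem_inter_iff, sub_zero] at h1 h2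
      rw [← map_one (algebraMap k (v.adicCompletion k)), ← map_sub, ← map_mul,
        GrothLib.DegOne28.valued_algebraMap, GrothLib.DegOne28.valued_algebraMap] at h1 h2
      have hd : v.valuation k (δ⁻¹ * (r₁ - r₂)) < 1 := by
        rw [show δ⁻¹ * (r₁ - r₂) = δ⁻¹ * (r₁ - 1) - δ⁻¹ * (r₂ - 1) by ring]
        exact Valuation.map_sub_lt _ h1.2 h2.2
      have hr' : v.valuation k r = 1 := by
        rw [← map_one (v.valuation k)]
        rcases hr with rfl | rfl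
        · exact Valuation.map_eq_of_sub_lt _ (h1.1.trans_eq (map_one _).symm)
        · exact Valuation.map_eq_of_sub_lt _ (h2.1.trans_eq (map_one _).symm)
      rw [hr', one_mul] at hlt
      rw [map_mul, map_inv₀, inv_mul_lt_one₀ (zero_lt_iff.mpr hδv)] at hd
      exact lt_asymm hd hlt
    · have hr' := hr1.resolve_right hE
      rw [hr', one_mul] at hlt
      have hδ1 : v.valuation k δ⁻¹ ≤ 1 := not_lt.mp fun h => hE (Finset.mem_filter.mpr
        ⟨(HeightOneSpectrum.Support.finite (𝓞 k) δ⁻¹).mem_toFinset.mpr h, hv⟩)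
      rw [map_inv₀, inv_le_one₀ (zero_lt_iff.mpr hδv)] at hδ1
      exact (hlt.trans_le (Valuation.map_sub_le _ (hle hE).1 (hle hE).2)).not_ge hδ1
  have hrle₁ : ∀ W : HeightOneSpectrum (𝓞 k₁), W.under (𝓞 k) ∉ Sf → W.valuation k₁ (algebraMap k k₁ r₁) = W.valuation k₁ T₁ :=
    fun W hW => by conv_rhs => rw [← hB₁ T₁, map_mul, hg₁.unit W hW, mul_one]
  have hrle₂ : ∀ W : HeightOneSpectrum (𝓞 k₂), W.under (𝓞 k) ∉ Sf → W.valuation k₂ (algebraMap k k₂ r₂) = W.valuation k₂ T₂ :=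
    fun W hW => by conv_rhs => rw [← hB₂ T₂, map_mul, hg₂.unit W hW, mul_one]
  have hint : ∀ v : HeightOneSpectrum (𝓞 k), v ∉ Sf → v ≠ v₀ → v ∉ E → v.valuation k r₁ ≤ 1 ∧ v.valuation k r₂ ≤ 1 := by
    intro v hv hv0 hE
    constructor
    · obtain ⟨Q, hQ⟩ := Ideal.exists_ideal_over_prime_of_isIntegral v.asIdeal (⊥ : Ideal (𝓞 k₁))
        (by rw [Ideal.comap_bot_of_injective _ (FaithfulSMul.algebraMap_injective _ _)]; exact bot_le)
      let W : HeightOneSpectrum (𝓞 k₁) := ⟨Q, hQ.2.1, fun h => v.ne_bot (by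
        rw [← hQ.2.2, h, Ideal.comap_bot_of_injective _ (FaithfulSMul.algebraMap_injective _ _)])⟩
      have hW : W.under (𝓞 k) = v := HeightOneSpectrum.ext hQ.2.2
      rw [← hW, ← val_le_one_iff, hrle₁ W (hW ▸ hv)]
      exact (hT₁ W (by rw [hW]; simp [hv, hE])).1 (hW ▸ hv0)
    · obtain ⟨Q, hQ⟩ := Ideal.exists_ideal_over_prime_of_isIntegral v.asIdeal (⊥ : Ideal (𝓞 k₂))
        (by rw [Ideal.comap_bot_of_injective _ (FaithfulSMul.algebraMap_injective _ _)]; exact bot_le)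
      let W : HeightOneSpectrum (𝓞 k₂) := ⟨Q, hQ.2.1, fun h => v.ne_bot (by
        rw [← hQ.2.2, h, Ideal.comap_bot_of_injective _ (FaithfulSMul.algebraMap_injective _ _)])⟩
      have hW : W.under (𝓞 k) = v := HeightOneSpectrum.ext hQ.2.2
      rw [← hW, ← val_le_one_iff, hrle₂ W (hW ▸ hv)]
      exact (hT₂ W (by rw [hW]; simp [hv, hE])).1 (hW ▸ hv0)
  constructor
  · intro W hW
    by_contra hc
    push Not at hc
    have hne0 : W.under (𝓞 k) ≠ v₀ := fun h => hc.2.false (hsplit₁ W h).some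
    rw [← map_sub, add_sub_cancel_left, val_lt_one_iff] at hW
    refine key _ hc.1 hne0 r₁ (Or.inl rfl) ?_ (hint _ hc.1 hne0) hW
    by_cases hE : W.under (𝓞 k) ∈ E
    · exact Or.inr hE
    · left
      rw [← val_eq_one_iff, hrle₁ W hc.1]
      exact (hT₁ W (by simp [hc.1, hE])).2.resolve_right fun h => hc.2.false h.some
  · intro W hW
    by_contra hc
    push Not at hc
    have hne0 : W.under (𝓞 k) ≠ v₀ := fun h => hc.2.false (hsplit₂ W h).some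
    rw [← map_sub, show α₁ + r₁ * δ / (r₁ - r₂) - α₂ = r₂ * δ / (r₁ - r₂) by
      simp only [δ]; field_simp; ring, val_lt_one_iff] at hW
    refine key _ hc.1 hne0 r₂ (Or.inr rfl) ?_ (hint _ hc.1 hne0) hW
    by_cases hE : W.under (𝓞 k) ∈ E
    · exact Or.inr hE
    · left
      rw [← val_eq_one_iff, hrle₂ W hc.1]
      exact (hT₂ W (by simp [hc.1, hE])).2.resolve_right fun h => hc.2.false h.some

end GrothLib.LocSplit28
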