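import Groth.Agent.Lib.DegOne28.Places
import Groth.Agent.Lib.StrongApproxNF28.CodimTwo
import Mathlib.NumberTheory.RamificationInertia.Valuation
import Mathlib.FieldTheory.SplittingField.Construction
import Mathlib.RingTheory.AlgebraTower

/-!
# Places in an extension of number fields
-/

set_option autoImplicit false
set_option linter.style.haveILetI false

universe u

open NumberField IsDedekindDomain WithZero Polynomial Module

namespace GrothLib.LocSplit28

variable {k k₁ : Type u} [Field k] [NumberField k] [Field k₁] [NumberField k₁] [Algebra k k₁]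

theorem liesOver_iff (v : HeightOneSpectrum (𝓞 k)) (W : HeightOneSpectrum (𝓞 k₁)) :
    W.asIdeal.LiesOver v.asIdeal ↔ W.under (𝓞 k) = v :=
  ⟨fun h => HeightOneSpectrum.ext h.over.symm, fun h => h ▸ Ideal.over_under W.asIdeal⟩

theorem exists_valuation_pow (W : HeightOneSpectrum (𝓞 k₁)) :
    ∃ e : ℕ, e ≠ 0 ∧ ∀ x : k, W.valuation k₁ (algebraMap k k₁ x) = (W.under (𝓞 k)).valuation k x ^ e := by
  haveI : W.asIdeal.LiesOver (W.under (𝓞 k)).asIdeal := Ideal.over_under W.asIdeal
  exact ⟨(W.under (𝓞 k)).asIdeal.ramificationIdx' W.asIdeal,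
    Ideal.IsDedekindDomain.ramificationIdx'_ne_zero_of_liesOver W.asIdeal (W.under (𝓞 k)).ne_bot,
    fun x => (HeightOneSpectrum.valuation_liesOver k₁ (W.under (𝓞 k)) W x).symm⟩

variable (W : HeightOneSpectrum (𝓞 k₁)) {x : k}

theorem val_le_one_iff : W.valuation k₁ (algebraMap k k₁ x) ≤ 1 ↔ (W.under (𝓞 k)).valuation k x ≤ 1 := by
  obtain ⟨e, he, h⟩ := exists_valuation_pow (k := k) W
  rw [h, pow_le_one_iff he]

theorem val_lt_one_iff : W.valuation k₁ (algebraMap k k₁ x) < 1 ↔ (W.under (𝓞 k)).valuation k x < 1 := by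
  obtain ⟨e, he, h⟩ := exists_valuation_pow (k := k) W
  rw [h, pow_lt_one_iff he]

theorem val_eq_one_iff : W.valuation k₁ (algebraMap k k₁ x) = 1 ↔ (W.under (𝓞 k)).valuation k x = 1 := by
  obtain ⟨e, he, h⟩ := exists_valuation_pow (k := k) W
  rw [h]; simp [pow_eq_one_iff, he]

variable {W}

/-- An element integral over `v` becomes integral after multiplying by a unit at `v`. -/
theorem exists_mul_integral (v : HeightOneSpectrum (𝓞 k)) (x : k₁)
    (hx : ∀ W : HeightOneSpectrum (𝓞 k₁), W.under (𝓞 k) = v → W.valuation k₁ x ≤ 1) :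
    ∃ (s : 𝓞 k) (y : 𝓞 k₁), v.valuation k (s : k) = 1 ∧ (y : k₁) = (s : k) • x := by
  classical
  let F := (HeightOneSpectrum.Support.finite (𝓞 k₁) x).toFinset
  have ht : ∀ W : HeightOneSpectrum (𝓞 k₁), ∃ t : 𝓞 k, v.valuation k (t : k) = 1 ∧
      (W ∈ F → W.valuation k₁ (algebraMap k k₁ (t : k)) < 1) := fun W => by
    by_cases hW : W ∈ F
    · have hne : W.under (𝓞 k) ≠ v := fun h =>
        absurd (hx W h) (not_le.mpr ((HeightOneSpectrum.Support.finite (𝓞 k₁) x).mem_toFinset.mp hW))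
      obtain ⟨t, ht, htv⟩ := SetLike.not_le_iff_exists.mp fun hle : (W.under (𝓞 k)).asIdeal ≤ v.asIdeal =>
        hne (HeightOneSpectrum.ext ((W.under (𝓞 k)).isMaximal.eq_of_le v.isPrime.ne_top hle))
      refine ⟨t, ?_, fun _ => ?_⟩
      · exact le_antisymm (v.valuation_le_one t) (not_lt.mp fun h => htv (by
          rwa [HeightOneSpectrum.valuation_of_algebraMap, HeightOneSpectrum.intValuation_lt_one_iff_mem] at h))
      · rw [val_lt_one_iff, HeightOneSpectrum.valuation_of_algebraMap, HeightOneSpectrum.intValuation_lt_one_iff_mem]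
        exact ht
    · exact ⟨1, by simp, fun h => absurd h hW⟩
  choose t ht ht' using ht
  let N := ∑ W ∈ F, (log (W.valuation k₁ x)).toNat
  let s : 𝓞 k := (∏ W ∈ F, t W) ^ N
  have hsk : ∀ W' : HeightOneSpectrum (𝓞 k₁), W'.valuation k₁ (algebraMap k k₁ (s : k)) ≤ 1 := fun W' =>
    (val_le_one_iff W').mpr ((W'.under (𝓞 k)).valuation_le_one s)
  obtain ⟨y, hy⟩ := HeightOneSpectrum.mem_integers_of_valuation_le_one k₁ ((s : k) • x) fun W => by
    rw [Algebra.smul_def, map_mul]
    by_cases hW : W ∈ F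
    · have hx1 : 1 < W.valuation k₁ x := (HeightOneSpectrum.Support.finite (𝓞 k₁) x).mem_toFinset.mp hW
      have hx0 : W.valuation k₁ x ≠ 0 := (zero_lt_one.trans hx1).ne'
      have hN : (log (W.valuation k₁ x)).toNat ≤ N :=
        Finset.single_le_sum (f := fun W => (log (W.valuation k₁ x)).toNat) (fun _ _ => Nat.zero_le _) hW
      have h1 : W.valuation k₁ (algebraMap k k₁ (s : k)) ≤ exp (-(N : ℤ)) := by
        have hlt := ht' W hW
        have hle : W.valuation k₁ (algebraMap k k₁ ((∏ W ∈ F, t W : 𝓞 k) : k)) ≤ exp (-1 : ℤ) := by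
          rw [Finset.prod_eq_mul_prod_sdiff_singleton_of_mem hW, RingOfIntegers.coe_eq_algebraMap, map_mul (algebraMap (𝓞 k) k), map_mul (algebraMap k k₁), map_mul (W.valuation k₁)]
          refine (mul_le_of_le_one_right' ((val_le_one_iff W).mpr ((W.under (𝓞 k)).valuation_le_one _))).trans ?_
          rcases eq_or_ne (W.valuation k₁ (algebraMap k k₁ (t W : k))) 0 with h0 | h0
          · rw [h0]; exact zero_le
          · rw [← exp_log h0, exp_le_exp]
            rw [← exp_log h0, ← exp_zero, exp_lt_exp] at hlt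
            omega
        rw [show (s : k) = ((∏ W ∈ F, t W : 𝓞 k) : k) ^ N from map_pow _ _ _, map_pow, map_pow]
        refine (pow_le_pow_left₀ zero_le hle N).trans (le_of_eq ?_)
        rw [← exp_nsmul]; simp
      refine (mul_le_mul_left h1 _).trans ?_
      rw [← exp_log hx0, ← exp_add, ← exp_zero, exp_le_exp]
      omega
    · exact mul_le_one' (hsk W) (not_lt.mp fun h => hW ((HeightOneSpectrum.Support.finite (𝓞 k₁) x).mem_toFinset.mpr h))
  refine ⟨s, y, ?_, hy⟩
  rw [show (s : k) = ((∏ W ∈ F, t W : 𝓞 k) : k) ^ N from map_pow _ _ _, map_pow, RingOfIntegers.coe_eq_algebraMap,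
    map_prod (algebraMap (𝓞 k) k), map_prod (v.valuation k),
    Finset.prod_eq_one fun W _ => ht W, one_pow]

/-- Coordinates of elements integral over `v` are bounded, and integral for almost all `v`. -/
theorem exists_coord_bound {ι : Type*} [Finite ι] (B : Basis ι k k₁) :
    ∃ M : HeightOneSpectrum (𝓞 k) → ℕ, {v | M v ≠ 0}.Finite ∧
      ∀ (v : HeightOneSpectrum (𝓞 k)) (x : k₁),
        (∀ W : HeightOneSpectrum (𝓞 k₁), W.under (𝓞 k) = v → W.valuation k₁ x ≤ 1) →
        ∀ i, v.valuation k (B.repr x i) ≤ exp (M v : ℤ) := by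
  classical
  haveI := Fintype.ofFinite ι
  obtain ⟨G, hG⟩ := (Module.Finite.fg_top : (⊤ : Submodule ℤ (𝓞 k₁)).FG)
  let M : HeightOneSpectrum (𝓞 k) → ℕ := fun v =>
    ∑ p ∈ G ×ˢ Finset.univ, (log (v.valuation k (B.repr (p.1 : k₁) p.2))).toNat
  refine ⟨M, ?_, fun v x hx i => ?_⟩
  · refine ((G ×ˢ (Finset.univ : Finset ι)).finite_toSet.biUnion fun p _ =>
      HeightOneSpectrum.Support.finite (𝓞 k) (B.repr (p.1 : k₁) p.2)).subset fun v hv => ?_
    obtain ⟨p, hp, hp0⟩ := Finset.exists_ne_zero_of_sum_ne_zero hv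
    refine Set.mem_biUnion (Finset.mem_coe.mpr hp) ?_
    show 1 < v.valuation k _
    by_contra h
    rcases eq_or_ne (v.valuation k (B.repr (p.1 : k₁) p.2)) 0 with h0 | h0
    · simp [h0] at hp0
    · rw [not_lt, ← exp_log h0, ← exp_zero, exp_le_exp] at h; omega
  obtain ⟨s, y, hs, hy⟩ := exists_mul_integral v x hx
  have hmem : ∀ y : 𝓞 k₁, v.valuation k (B.repr (y : k₁) i) ≤ exp (M v : ℤ) := fun y => by
    induction (hG.symm ▸ Submodule.mem_top : y ∈ Submodule.span ℤ (G : Set (𝓞 k₁))) using Submodule.span_induction with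
    | mem g hg =>
      rcases eq_or_ne (v.valuation k (B.repr (g : k₁) i)) 0 with h0 | h0
      · rw [h0]; exact zero_le
      · have := Finset.single_le_sum (f := fun p : 𝓞 k₁ × ι => (log (v.valuation k (B.repr (p.1 : k₁) p.2))).toNat)
          (fun _ _ => Nat.zero_le _) (a := (g, i)) (s := G ×ˢ Finset.univ) (Finset.mem_product.mpr ⟨hg, Finset.mem_univ i⟩)
        rw [← exp_log h0, exp_le_exp]
        simp only [M] at *
        omega
    | zero => simp
    | add a b _ _ ha hb =>
      rw [RingOfIntegers.coe_eq_algebraMap, map_add (algebraMap (𝓞 k₁) k₁), map_add B.repr, Finsupp.add_apply]; exact Valuation.map_add_le _ ha hb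
    | smul z a _ ha =>
      rw [RingOfIntegers.coe_eq_algebraMap, map_zsmul (algebraMap (𝓞 k₁) k₁), map_zsmul B.repr, Finsupp.smul_apply, zsmul_eq_mul, map_mul]
      refine (mul_le_of_le_one_left' ?_).trans ha
      rw [← map_intCast (algebraMap (𝓞 k) k)]
      exact v.valuation_le_one _
  have := hmem y
  rwa [hy, map_smul, Finsupp.smul_apply, smul_eq_mul, map_mul, hs, one_mul] at this

theorem finite_over (v : HeightOneSpectrum (𝓞 k)) : {W : HeightOneSpectrum (𝓞 k₁) | W.under (𝓞 k) = v}.Finite := by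
  refine Set.Finite.of_finite_image (f := fun W : HeightOneSpectrum (𝓞 k₁) => W.asIdeal)
    ((IsDedekindDomain.primesOver_finite v.asIdeal (𝓞 k₁)).subset ?_) (fun a _ b _ h => HeightOneSpectrum.ext h)
  rintro _ ⟨W, hW, rfl⟩
  exact ⟨W.isPrime, (liesOver_iff v W).mpr hW⟩

/-- Elements close to `b` at all places over `v` have coordinates close to those of `b`. -/
theorem exists_depth {ι : Type*} [Finite ι] (B : Basis ι k k₁) (v : HeightOneSpectrum (𝓞 k)) (b : k₁)
    {U : Set (ι → v.adicCompletion k)} (hU : IsOpen U)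
    (hb : (fun i => algebraMap k (v.adicCompletion k) (B.repr b i)) ∈ U) :
    ∃ n : ℕ, ∀ z : k₁, (∀ W : HeightOneSpectrum (𝓞 k₁), W.under (𝓞 k) = v → W.valuation k₁ (z - b) ≤ exp (-(n : ℤ))) →
      (fun i => algebraMap k (v.adicCompletion k) (B.repr z i)) ∈ U := by
  classical
  haveI := Fintype.ofFinite ι
  obtain ⟨u, hu, hsub⟩ := isOpen_pi_iff'.mp hU _ hb
  have hN : ∀ i, ∃ N : ℕ, ∀ y, Valued.v (y - algebraMap k (v.adicCompletion k) (B.repr b i)) ≤ exp (-(N : ℤ)) → y ∈ u i :=
    fun i => GrothLib.StrongApproxNF28.exists_ball_subset (hu i).1 (hu i).2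
  choose N hN using hN
  obtain ⟨M, -, hM⟩ := exists_coord_bound B
  obtain ⟨π, hπ⟩ := v.valuation_exists_uniformizer k
  let m := M v + Finset.univ.sup N
  have hπ0 : π ≠ 0 := fun h => by rw [h, map_zero] at hπ; exact exp_ne_zero hπ.symm
  have hc0 : algebraMap k k₁ (π ^ m) ≠ 0 := (_root_.map_ne_zero _).mpr (pow_ne_zero _ hπ0)
  let n := ∑ W ∈ (finite_over (k₁ := k₁) v).toFinset, (- log (W.valuation k₁ (algebraMap k k₁ (π ^ m)))).toNat
  refine ⟨n, fun z hz => hsub fun i _ => hN i _ ?_⟩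
  have hw : ∀ W : HeightOneSpectrum (𝓞 k₁), W.under (𝓞 k) = v →
      W.valuation k₁ ((π ^ m)⁻¹ • (z - b)) ≤ 1 := fun W hW => by
    have hv0 : W.valuation k₁ (algebraMap k k₁ (π ^ m)) ≠ 0 := (Valuation.ne_zero_iff _).mpr hc0
    rw [Algebra.smul_def, map_inv₀, map_mul, map_inv₀, inv_mul_le_one₀ (zero_lt_iff.mpr hv0)]
    refine (hz W hW).trans ?_
    have hle : (- log (W.valuation k₁ (algebraMap k k₁ (π ^ m)))).toNat ≤ n :=
      Finset.single_le_sum (f := fun W => (- log (W.valuation k₁ (algebraMap k k₁ (π ^ m)))).toNat)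
        (fun _ _ => Nat.zero_le _) ((finite_over v).mem_toFinset.mpr hW)
    rw [← exp_log hv0, exp_le_exp]
    omega
  have h := hM v _ hw i
  rw [map_smul, Finsupp.smul_apply, smul_eq_mul, map_mul, map_inv₀, map_pow, hπ,
    inv_mul_le_iff₀ (zero_lt_iff.mpr (pow_ne_zero _ exp_ne_zero))] at h
  rw [← map_sub, GrothLib.DegOne28.valued_algebraMap, ← Finsupp.sub_apply, ← map_sub]
  refine h.trans ?_
  rw [← exp_nsmul, ← exp_add, exp_le_exp]
  have := Finset.le_sup (f := N) (Finset.mem_univ i)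
  simp only [m, nsmul_eq_mul, Nat.cast_add]
  omega

/-- Outside any finite set there are places at which the given extensions are split. -/
theorem exists_split_place {n : ℕ} (kf Lf : Fin n → Type u) [∀ i, Field (kf i)] [∀ i, NumberField (kf i)]
    [∀ i, Algebra k (kf i)] [∀ i, Field (Lf i)] [∀ i, NumberField (Lf i)] [∀ i, Algebra (kf i) (Lf i)]
    [∀ i, Algebra k (Lf i)] [∀ i, IsScalarTower k (kf i) (Lf i)] (Z : Finset (HeightOneSpectrum (𝓞 k))) :
    ∃ v : HeightOneSpectrum (𝓞 k), v ∉ Z ∧ ∀ i, ∀ W : HeightOneSpectrum (𝓞 (kf i)), W.under (𝓞 k) = v →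
      Nonempty (Lf i →ₐ[kf i] W.adicCompletion (kf i)) := by
  classical
  haveI : ∀ i, FiniteDimensional (kf i) (Lf i) := fun i => Module.Finite.of_restrictScalars_finite ℚ _ _
  haveI : ∀ i, FiniteDimensional k (Lf i) := fun i => Module.Finite.of_restrictScalars_finite ℚ _ _
  choose θ hθ using fun i => Field.exists_primitive_element (kf i) (Lf i)
  let f : k[X] := ∏ i, minpoly k (θ i)
  have hf0 : f ≠ 0 := Finset.prod_ne_zero_iff.mpr fun i _ => minpoly.ne_zero (IsIntegral.of_finite k _)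
  let M := f.SplittingField
  haveI : NumberField M := NumberField.of_module_finite k M
  haveI : FiniteDimensional k M := inferInstance
  obtain ⟨ψ, hψ, hψ0⟩ : ∃ ψ : M, IntermediateField.adjoin k {ψ} = ⊤ ∧ ψ ≠ 0 := by
    obtain ⟨ψ, hψ⟩ := Field.exists_primitive_element k M
    by_cases h : ψ = 0
    · subst h
      refine ⟨1, ?_, one_ne_zero⟩
      rw [eq_top_iff, ← hψ]
      exact IntermediateField.adjoin_le_iff.mpr (by simp)
    · exact ⟨ψ, hψ, h⟩
  have hi : IsIntegral k ψ := IsIntegral.of_finite k ψ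
  obtain ⟨r, s, hrs⟩ := GrothLib.DegOne28.exists_bezout (Algebra.IsSeparable.isSeparable k ψ : (minpoly k ψ).Separable)
  obtain ⟨v, hv, c, hc, -, h0⟩ := GrothLib.DegOne28.exists_nonunit_value (minpoly k ψ) (minpoly.degree_pos hi)
    (minpoly.coeff_zero_ne_zero hi hψ0) (Z ∪ (GrothLib.DegOne28.badSet_finite (minpoly k ψ) r s).toFinset)
  simp only [Finset.mem_union, Set.Finite.mem_toFinset, not_or] at hv
  refine ⟨v, hv.1, fun i W hW => ?_⟩
  let g := algebraMap k (kf i)
  have hgood : W ∉ GrothLib.DegOne28.badSet (kf i) ((minpoly k ψ).map g) (r.map g) (s.map g) := fun hbad => by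
    simp only [GrothLib.DegOne28.badSet, Set.mem_iUnion] at hbad
    obtain ⟨Q, hQ, j, -, hj⟩ := hbad
    change 1 < W.valuation (kf i) (Q.coeff j) at hj
    obtain ⟨Q', hQ', rfl⟩ : ∃ Q' ∈ ({minpoly k ψ, r, s} : Set k[X]), Q = Q'.map g := by
      rcases hQ with rfl | rfl | rfl
      exacts [⟨_, by simp, rfl⟩, ⟨_, by simp, rfl⟩, ⟨_, by simp, rfl⟩]
    rw [coeff_map] at hj
    exact not_le.mpr hj ((val_le_one_iff W).mpr (hW ▸ GrothLib.DegOne28.coeff_le_one hv.2 hQ' j))
  obtain ⟨x, hx⟩ := GrothLib.DegOne28.exists_root_of_separable (r := r.map g) (s := s.map g)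
    (by rw [← Polynomial.map_mul, derivative_map, ← Polynomial.map_mul, ← Polynomial.map_add, hrs, Polynomial.map_one])
    hgood (g c) ((val_le_one_iff W).mpr (hW ▸ hc))
    (by rw [eval_map, eval₂_at_apply]; exact (val_lt_one_iff W).mpr (hW ▸ h0))
  letI : Algebra k (W.adicCompletion (kf i)) := ((algebraMap (kf i) (W.adicCompletion (kf i))).comp g).toAlgebra
  haveI : IsScalarTower k (kf i) (W.adicCompletion (kf i)) := IsScalarTower.of_algebraMap_eq fun _ => rfl
  rw [aeval_map_algebraMap] at hx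
  obtain ⟨φ⟩ := GrothLib.DegOne28.nonempty_algHom_of_root hψ hx
  have hsplit : ((minpoly k (θ i)).map (algebraMap k (W.adicCompletion (kf i)))).Splits := by
    have hM : ((minpoly k (θ i)).map (algebraMap k M)).Splits := (SplittingField.splits f).of_dvd
      ((Polynomial.map_ne_zero_iff (algebraMap k M).injective).mpr hf0) (Polynomial.map_dvd _ (Finset.dvd_prod_of_mem _ (Finset.mem_univ i)))
    have := hM.map φ.toRingHom
    rwa [Polynomial.map_map, show φ.toRingHom.comp (algebraMap k M) = algebraMap k _ from φ.comp_algebraMap] at this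
  have hdvd := Polynomial.map_dvd (algebraMap (kf i) (W.adicCompletion (kf i))) (minpoly.dvd_map_of_isScalarTower k (kf i) (θ i))
  rw [Polynomial.map_map, ← IsScalarTower.algebraMap_eq] at hdvd
  obtain ⟨y, hy⟩ := (hsplit.of_dvd ((Polynomial.map_ne_zero_iff (algebraMap k _).injective).mpr (minpoly.ne_zero (IsIntegral.of_finite k _))) hdvd).exists_eval_eq_zero
    (by rw [degree_map]; exact (minpoly.degree_pos (IsIntegral.of_finite (kf i) (θ i))).ne')
  rw [eval_map, ← aeval_def] at hy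
  exact GrothLib.DegOne28.nonempty_algHom_of_root (hθ i) hy

end GrothLib.LocSplit28
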