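import Groth.Agent.Lib.LocSplit28.Cases
import Groth.Agent.Lib.LocSplit28.Compact

/-!
# Units at unramified places are norms in the tensor product with the completion
-/

set_option autoImplicit false
set_option linter.style.haveILetI false

universe u

open NumberField IsDedekindDomain WithZero Module
open scoped TensorProduct

namespace GrothLib.LocSplit28

variable {k k₁ L : Type u} [Field k] [NumberField k] [Field k₁] [NumberField k₁] [Algebra k k₁]
  [Field L] [NumberField L] [Algebra k₁ L] [Algebra k L] [IsScalarTower k k₁ L]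

/-- An element with unit norm is a unit. -/
theorem isUnit_of_norm {A B : Type*} [CommRing A] [CommRing B] [Algebra A B] [Module.Free A B] [Module.Finite A B]
    {x : B} (h : IsUnit (Algebra.norm A x)) : IsUnit x := by
  classical
  rw [Algebra.norm_apply] at h
  have h' := (LinearMap.isUnit_iff_isUnit_det (Algebra.lmul A B x)).mpr h
  obtain ⟨y, hy⟩ := ((Module.End.isUnit_iff _).mp h').2 1
  exact IsUnit.of_mul_eq_one y hy

/-- A unit at an unramified place is, to any precision, a norm with bounded coordinates. -/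
theorem exists_norm_near_bdd [FiniteDimensional k k₁] [FiniteDimensional k₁ L] {ι κ : Type*} [Finite ι] [Fintype κ]
    (B₁ : Basis ι k k₁) (BL : Basis κ k L) (v : HeightOneSpectrum (𝓞 k))
    (hram : ∀ W : HeightOneSpectrum (𝓞 k₁), W.under (𝓞 k) = v → ∀ Q : Ideal (𝓞 L), Q.IsPrime → Q ≠ ⊥ →
      Q.LiesOver W.asIdeal → Q.ramificationIdx (𝓞 k₁) = 1)
    (c : k₁) (hc : ∀ W : HeightOneSpectrum (𝓞 k₁), W.under (𝓞 k) = v → W.valuation k₁ c = 1) :
    ∃ M : ℕ, ∀ U : Set (ι → v.adicCompletion k), IsOpen U →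
      (fun i => algebraMap k (v.adicCompletion k) (B₁.repr c i)) ∈ U →
      ∃ C : κ → v.adicCompletion k, (∀ j, Valued.v (C j) ≤ exp (M : ℤ)) ∧ normT (v.adicCompletion k) B₁ BL C ∈ U := by
  classical
  obtain ⟨M, -, hM⟩ := exists_coord_bound BL
  refine ⟨M v, fun U hU hcU => ?_⟩
  obtain ⟨n, hn⟩ := exists_depth B₁ v c hU hcU
  let β := Module.finBasis k₁ L
  have hy : ∀ W : HeightOneSpectrum (𝓞 k₁), ∃ y : L, W.under (𝓞 k) = v →
      W.valuation k₁ (Algebra.norm k₁ y - c) ≤ exp (-(n : ℤ)) ∧
        ∀ P : HeightOneSpectrum (𝓞 L), P.under (𝓞 k₁) = W → P.valuation L y ≤ 1 := fun W => by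
    by_cases hW : W.under (𝓞 k) = v
    · obtain ⟨b, s, hs, hy⟩ := GrothLib.UnitNorm28.exists_norm_val_sub_le' W (hram W hW) c (hc W hW) n
      refine ⟨_, fun _ => ⟨hy, fun P hP => ?_⟩⟩
      have hs' : P.valuation L (algebraMap k₁ L (s : k₁)) = 1 := by
        rw [val_eq_one_iff, hP, HeightOneSpectrum.valuation_of_algebraMap, hs]
      rw [map_div₀, show algebraMap (𝓞 L) L (algebraMap (𝓞 k₁) (𝓞 L) s) = algebraMap k₁ L (s : k₁) from
        (IsScalarTower.algebraMap_apply (𝓞 k₁) (𝓞 L) L s).symm.trans (IsScalarTower.algebraMap_apply (𝓞 k₁) k₁ L s),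
        hs', div_one]
      exact P.valuation_le_one b
    · exact ⟨1, fun h => absurd h hW⟩
  choose y hy using hy
  have hN : ∀ W : HeightOneSpectrum (𝓞 k₁), ∃ N : ℕ, ∀ d : Fin (finrank k₁ L) → k₁,
      (∀ j, W.valuation k₁ (d j - β.repr (y W) j) ≤ exp (-(N : ℤ))) →
        W.valuation k₁ (Algebra.norm k₁ (∑ j, d j • β j) - Algebra.norm k₁ (y W)) ≤ exp (-(n : ℤ)) ∧
        ∀ P : HeightOneSpectrum (𝓞 L), P.under (𝓞 k₁) = W → P.valuation L (∑ j, d j • β j - y W) ≤ 1 := fun W => by
    let F := W.adicCompletion k₁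
    obtain ⟨π, hπ⟩ := W.valuation_exists_uniformizer k₁
    let O : Set F := {z : F | Valued.v (algebraMap k₁ F (π⁻¹ ^ n) * (z - algebraMap k₁ F (Algebra.norm k₁ (y W))) - 0) < 1}
    have hopen : IsOpen O := (GrothLib.StrongApproxNF28.isOpen_v_lt_one W 0).preimage
      (continuous_const.mul (continuous_id.sub continuous_const))
    have hmem : (fun j => algebraMap k₁ F (β.repr (y W) j)) ∈ GrothLib.DegOne28.normForm F β ⁻¹' O := by
      simp [O, GrothLib.DegOne28.normForm_algebraMap, β.sum_repr]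
    obtain ⟨u, hu, hsub⟩ := isOpen_pi_iff'.mp (hopen.preimage (GrothLib.DegOne28.continuous_normForm F β)) _ hmem
    choose N hN using fun j => GrothLib.StrongApproxNF28.exists_ball_subset (hu j).1 (hu j).2
    let N2 := ∑ P ∈ (finite_over (k₁ := L) W).toFinset, ∑ j, (log (P.valuation L (β j))).toNat
    refine ⟨Finset.univ.sup N + N2, fun d hd => ⟨?_, fun P hP => ?_⟩⟩
    · have := hsub (show (fun j => algebraMap k₁ F (d j)) ∈ Set.univ.pi u from fun j _ => hN j _ (by
        rw [← map_sub, GrothLib.DegOne28.valued_algebraMap]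
        refine (hd j).trans ?_
        rw [exp_le_exp]
        have := Finset.le_sup (f := N) (Finset.mem_univ j)
        omega))
      simp only [O, Set.mem_preimage, Set.mem_ofPred_eq, GrothLib.DegOne28.normForm_algebraMap, sub_zero] at this
      rw [← map_sub, ← map_mul, GrothLib.DegOne28.valued_algebraMap, map_mul, map_pow, map_inv₀, hπ, ← exp_neg, ← exp_nsmul] at this
      have h2 := mul_le_mul_right this.le (exp (-(n : ℤ)))
      rw [mul_one, ← mul_assoc, ← exp_add, nsmul_eq_mul] at h2
      simpa using h2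
    · conv_lhs => rw [← β.sum_repr (y W), ← Finset.sum_sub_distrib]
      refine Valuation.map_sum_le _ fun j _ => ?_
      rw [← sub_smul, Algebra.smul_def, map_mul]
      obtain ⟨e, he, hpow⟩ := exists_valuation_pow (k := k₁) P
      rw [hpow, hP]
      rcases eq_or_ne (P.valuation L (β j)) 0 with h0 | h0
      · rw [h0, mul_zero]; exact zero_le
      · have h1 : (log (P.valuation L (β j))).toNat ≤ N2 :=
          (Finset.single_le_sum (f := fun j => (log (P.valuation L (β j))).toNat) (fun _ _ => Nat.zero_le _)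
            (Finset.mem_univ j)).trans
            (Finset.single_le_sum (f := fun P => ∑ j, (log (P.valuation L (β j))).toNat) (fun _ _ => Nat.zero_le _)
              ((finite_over W).mem_toFinset.mpr hP))
        refine (mul_le_mul_left ((pow_le_pow_left₀ zero_le (hd j) e).trans (pow_le_of_le_one zero_le
          (by rw [← exp_zero, exp_le_exp]; omega) he)) _).trans ?_
        rw [← exp_log h0, ← exp_add, ← exp_zero, exp_le_exp]
        omega
  choose N hN using hN
  let T := (finite_over (k₁ := k₁) v).toFinset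
  choose d _ hd using fun j => GrothLib.StrongApproxNF28.exists_near_finite T (fun W => β.repr (y W) j) (T.sup N)
  let z := ∑ j, d j • β j
  have hdW : ∀ W : HeightOneSpectrum (𝓞 k₁), W.under (𝓞 k) = v → ∀ j, W.valuation k₁ (d j - β.repr (y W) j) ≤ exp (-(N W : ℤ)) :=
    fun W hW j => (hd j W ((finite_over v).mem_toFinset.mpr hW)).trans (by
      rw [exp_le_exp]
      have := Finset.le_sup (f := N) ((finite_over (k₁ := k₁) v).mem_toFinset.mpr hW : W ∈ T)
      simp only [T] at *
      omega)
  refine ⟨fun j => algebraMap k (v.adicCompletion k) (BL.repr z j), fun j => ?_, ?_⟩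
  · rw [GrothLib.DegOne28.valued_algebraMap]
    refine hM v z (fun P hP => ?_) j
    let W := P.under (𝓞 k₁)
    have hW : W.under (𝓞 k) = v := by
      rw [← hP]
      refine HeightOneSpectrum.ext ?_
      exact Ideal.under_under (A := 𝓞 k) (B := 𝓞 k₁) P.asIdeal
    rw [show z = (z - y W) + y W by ring]
    exact Valuation.map_add_le _ ((hN W d (hdW W hW)).2 P rfl) ((hy W hW).2 P rfl)
  · rw [normT_algebraMap, BL.sum_repr]
    refine hn _ fun W hW => ?_
    rw [show Algebra.norm k₁ z - c = (Algebra.norm k₁ z - Algebra.norm k₁ (y W)) + (Algebra.norm k₁ (y W) - c) by ring]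
    exact Valuation.map_add_le _ (hN W d (hdW W hW)).1 (hy W hW).1

/-- A unit at an unramified place is a norm from the tensor product with the completion. -/
theorem exists_norm_eq [FiniteDimensional k k₁] [FiniteDimensional k₁ L] (v : HeightOneSpectrum (𝓞 k))
    (hram : ∀ W : HeightOneSpectrum (𝓞 k₁), W.under (𝓞 k) = v → ∀ Q : Ideal (𝓞 L), Q.IsPrime → Q ≠ ⊥ →
      Q.LiesOver W.asIdeal → Q.ramificationIdx (𝓞 k₁) = 1)
    (c : k₁) (hc0 : c ≠ 0) (hc : ∀ W : HeightOneSpectrum (𝓞 k₁), W.under (𝓞 k) = v → W.valuation k₁ c = 1) :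
    letI := mapAlg (k := k) (v.adicCompletion k) k₁ L
    ∃ x : (v.adicCompletion k) ⊗[k] L, IsUnit x ∧
      Algebra.norm ((v.adicCompletion k) ⊗[k] k₁) x = (1 : v.adicCompletion k) ⊗ₜ[k] c := by
  classical
  haveI : FiniteDimensional k L := Module.Finite.trans k₁ L
  letI := mapAlg (k := k) (v.adicCompletion k) k₁ L
  let B₁ := Module.finBasis k k₁
  let BL := Module.finBasis k L
  obtain ⟨M, hM⟩ := exists_norm_near_bdd B₁ BL v hram c hc
  have hclosed : IsClosed (normT (v.adicCompletion k) B₁ BL '' {C | ∀ j, Valued.v (C j) ≤ exp (M : ℤ)}) :=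
    ((isCompact_box v M).image (continuous_normT _ B₁ BL)).isClosed
  have hmem : (fun i => algebraMap k (v.adicCompletion k) (B₁.repr c i)) ∈
      closure (normT (v.adicCompletion k) B₁ BL '' {C | ∀ j, Valued.v (C j) ≤ exp (M : ℤ)}) := by
    refine mem_closure_iff.mpr fun U hU hcU => ?_
    obtain ⟨C, hC, hCU⟩ := hM U hU hcU
    exact ⟨_, hCU, C, hC, rfl⟩
  rw [hclosed.closure_eq] at hmem
  obtain ⟨C, -, hC⟩ := hmem
  let x := ∑ j, C j • Algebra.TensorProduct.basis (v.adicCompletion k) BL j
  have hx : Algebra.norm ((v.adicCompletion k) ⊗[k] k₁) x = (1 : v.adicCompletion k) ⊗ₜ[k] c := by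
    refine (Algebra.TensorProduct.basis (v.adicCompletion k) B₁).repr.injective (Finsupp.ext fun i => ?_)
    rw [repr_tmul, one_mul]
    exact congrFun hC i
  obtain ⟨b, -⟩ := exists_basis (k := k) (v.adicCompletion k) k₁ L
  haveI := Module.Free.of_basis b
  haveI := Module.Finite.of_basis b
  refine ⟨x, isUnit_of_norm (A := (v.adicCompletion k) ⊗[k] k₁) ?_, hx⟩
  rw [hx, ← Algebra.TensorProduct.includeRight_apply (R := k)]
  exact (isUnit_iff_ne_zero.mpr hc0).map _

end GrothLib.LocSplit28
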